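/-
S5176: the package `GT.Pk` holds in the groups `G₂(q)`, `q ≡ 1 (mod 8)`.
-/
import Cfsg.Agent.WQ.Defs
import Cfsg.Agent.Blk.SqG2
import Cfsg.Agent.Fus.MCGroups

set_option autoImplicit false

open Cfsg Cfsg.FusionSystem Subgroup CL.Inv CL.Grp CL.Fus CL.Blk.Zorn Cfsg.Lie
open scoped Pointwise MatrixGroups

namespace CL.WQ

section Abstract

variable {Ω : Type*} [Group Ω] {S R T : Subgroup Ω} {n : ℕ}

theorem g2_exists (hn : 3 ≤ n) (u : ZMod (2 ^ n) → ZMod (2 ^ n) → Ω) (w h : Ω)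
    (h1 : ∀ i j k l, u i j * u k l = u (i + k) (j + l)) (h2 : ∀ i j k l, u i j = u k l → i = k ∧ j = l)
    (h3 : ∀ i j k l, u i j ≠ u k l * w) (h4 : w * w = 1) (h5 : ∀ i j, w * u i j = u j i * w) (h6 : h * h = 1)
    (h7 : ∀ i j, h * u i j = u (-i) (-j) * h) (h8 : h * w = w * h) :
    ∃ (S : Subgroup Ω) (G : GT S n), G.D.u = u ∧ (∀ i j, G.D.v i j = u i j * w) ∧ G.h = h := by
  have a0 : u 0 0 = 1 := by simpa using h1 0 0 0 0
  have a1 : ∀ i j k l, u i j * (u k l * w) = u (i + k) (j + l) * w := fun i j k l => by rw [← mul_assoc, h1]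
  have a2 : ∀ i j k l, u i j * w * u k l = u (i + l) (j + k) * w := fun i j k l => by rw [mul_assoc, h5, a1]
  have a3 : ∀ i j k l, u i j * w * (u k l * w) = u (i + l) (j + k) := fun i j k l => by
    rw [← mul_assoc, a2, mul_assoc, h4, mul_one]
  have a4 : ∀ i j, h * (u i j * w) = u (-i) (-j) * w * h := fun i j => by
    rw [← mul_assoc, h7, mul_assoc, h8, mul_assoc]
  have a5 : ∀ x, x * h * h = x := fun x => by rw [mul_assoc, h6, mul_one]
  let K : Subgroup Ω :=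
    { carrier := {g | ∃ i j, g = u i j ∨ g = u i j * w}
      one_mem' := ⟨0, 0, .inl a0.symm⟩
      mul_mem' := by
        rintro _ _ ⟨i, j, rfl | rfl⟩ ⟨k, l, rfl | rfl⟩
        exacts [⟨_, _, .inl (h1 ..)⟩, ⟨_, _, .inr (a1 ..)⟩, ⟨_, _, .inr (a2 ..)⟩, ⟨_, _, .inl (a3 ..)⟩]
      inv_mem' := by
        rintro _ ⟨i, j, rfl | rfl⟩
        · exact ⟨-i, -j, .inl (inv_eq_of_mul_eq_one_right (by simp [h1, a0]))⟩
        · exact ⟨-j, -i, .inr (inv_eq_of_mul_eq_one_right (by simp [a3, a0]))⟩ }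
  have hK : ∀ x ∈ K, h * x * h ∈ K := by
    rintro _ ⟨i, j, rfl | rfl⟩
    exacts [⟨_, _, .inl (by rw [h7, a5])⟩, ⟨_, _, .inr (by rw [a4, a5])⟩]
  have a6 : ∀ x, h * (h * x) = x := fun x => by rw [← mul_assoc, h6, one_mul]
  let S : Subgroup Ω :=
    { carrier := {g | g ∈ K ∨ g * h ∈ K}
      one_mem' := .inl K.one_mem
      mul_mem' := by
        rintro x y (a | a) (b | b)
        · exact .inl (mul_mem a b)
        · exact .inr (by simpa only [mul_assoc] using mul_mem a b)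
        · exact .inr (by simpa only [mul_assoc, a6] using mul_mem a (hK _ b))
        · exact .inl (by simpa only [mul_assoc, a6, h6, mul_one] using mul_mem a (hK _ b))
      inv_mem' := by
        rintro x (a | a)
        · exact .inl (inv_mem a)
        · exact .inr (by simpa only [mul_inv_rev, inv_eq_of_mul_eq_one_right h6, a6] using hK _ (inv_mem a)) }
  refine ⟨S, ⟨K, ⟨u, fun i j => u i j * w, by omega, h1, a1, a2, a3, h2, h3, fun _ => Iff.rfl⟩, h, hn, h6, h7, a4,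
    fun g => ⟨?_, ?_⟩⟩, rfl, fun _ _ => rfl, rfl⟩
  · rintro (⟨i, j, e | e⟩ | ⟨i, j, e | e⟩)
    exacts [⟨i, j, .inl e⟩, ⟨i, j, .inr (.inl e)⟩, ⟨i, j, .inr (.inr (.inl (by rw [← a5 g, e])))⟩,
      ⟨i, j, .inr (.inr (.inr (by rw [← a5 g, e])))⟩]
  · rintro ⟨i, j, rfl | rfl | rfl | rfl⟩
    exacts [.inl ⟨i, j, .inl rfl⟩, .inl ⟨i, j, .inr rfl⟩, .inr ⟨i, j, .inl (a5 _)⟩, .inr ⟨i, j, .inr (a5 _)⟩]

theorem QQ.g2_th (Q : QQ S R T n) {g : Ω} (h1 : ∀ y ∈ T, g * y = y * g) (h2 : g ^ 3 = 1)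
    (h3 : g * Q.A.a (zq n) = Q.A.b 0 * g) (h4 : g * Q.A.b 0 = Q.A.a (zq n) * Q.A.b 0 * g) :
    Q.Th (groupFusionSystem S) := by
  have := Q.finite
  have : Finite (Q.P 0) := Finite.of_injective _ (inclusion_injective (Q.P_le 0))
  have a1 : Q.A.a (zq n) ∈ Q.P 0 := mem_sup_left (Q.A.a_mem_sub_self _ _)
  have a2 : Q.A.b 0 ∈ Q.P 0 := mem_sup_left (Q.A.b_mem_sub_self _ _)
  have a3 : Q.P 0 ≤ (Q.P 0).comap (MulAut.conj g).toMonoidHom := sup_le (Q.A.sub_le_iff.2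
    ⟨show g * _ * g⁻¹ ∈ _ by rwa [h3, mul_inv_cancel_right], show g * _ * g⁻¹ ∈ _ by
      rw [h4, mul_inv_cancel_right]; exact mul_mem a1 a2⟩) fun y hy => show g * y * g⁻¹ ∈ Q.P 0 by
        rw [h1 y hy, mul_inv_cancel_right]; exact mem_sup_right hy
  have hg : g ∈ normalizer (Q.P 0 : Set Ω) := mem_normalizer_fintype fun x hx => a3 hx
  refine ⟨conjAut _ hg, (mem_autGroup_iff (Q.P_le 0)).2 (mor_group_iff.2 ⟨Q.P_le 0, fun x hx =>
    Q.P_le 0 (autFun_mem _ hx), g, fun x hx => autFun_conjAut hg hx⟩), Odd.of_dvd_nat (by decide : Odd 3)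
      (orderOf_dvd_of_pow_eq_one ?_), fun e => ?_, fun x hx hT => by
        rw [autFun_conjAut hg hx, h1 x hT, mul_inv_cancel_right]⟩
  · rw [conjAut, ← map_pow, show (⟨g, hg⟩ : normalizer (Q.P 0 : Set Ω)) ^ 3 = 1 from Subtype.ext h2, map_one]
  · have := autFun_conjAut hg a1
    rw [e, autFun_one a1, h3, mul_inv_cancel_right] at this
    exact Q.A.a_ne_b _ _ this

end Abstract

variable {K : Type*} [Field K]

theorem g2_three (h2 : (2 : K) ≠ 0) {A B : SL(2, K)} {ι ε : K} (hι : ι * ι = -1) (hε : ε * ε = 1)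
    (hA : A.1 = !![ι, 0; 0, -ι]) (hB : B.1 = !![0, ε; -ε, 0]) :
    ∃ g : SL(2, K), g ^ 3 = 1 ∧ g * A = B * g ∧ g * B = A * B * g := by
  obtain ⟨c, hc⟩ : ∃ c : K, 2 * c = -1 := ⟨-2⁻¹, by field_simp⟩
  obtain ⟨g, hg⟩ : ∃ g : SL(2, K), g.1 = !![c * (1 + ι), c * (ε + ι * ε); c * (ι * ε - ε), c * (1 - ι)] :=
    ⟨⟨_, by rw [Matrix.det_fin_two_of]; grind⟩, rfl⟩
  refine ⟨g, pow_three' g ▸ ?_, ?_, ?_⟩ <;> refine Matrix.SpecialLinearGroup.ext _ _ fun i j => ?_ <;> fin_cases i <;>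
    fin_cases j <;> simp [hg, hA, hB, Matrix.mul_apply, Fin.sum_univ_two] <;> grind

/-- The maximal torus. -/
def g2D (p : Kˣ × Kˣ) : (Fin 8 → K) →ₗ[K] (Fin 8 → K) where
  toFun x := ![x 0, p.1 * x 1, p.2 * x 2, (p.1 * p.2 : K)⁻¹ * x 3, (p.1 : K)⁻¹ * x 4, (p.2 : K)⁻¹ * x 5,
    p.1 * p.2 * x 6, x 7]
  map_add' x y := by apply ext8 <;> simp <;> ring
  map_smul' c x := by apply ext8 <;> simp <;> ring

theorem g2D_apply (p : Kˣ × Kˣ) (x : Fin 8 → K) : g2D p x = ![x 0, p.1 * x 1, p.2 * x 2, (p.1 * p.2 : K)⁻¹ * x 3,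
    (p.1 : K)⁻¹ * x 4, (p.2 : K)⁻¹ * x 5, p.1 * p.2 * x 6, x 7] := rfl

/-- A reflection of the Weyl group. -/
def g2W (K : Type*) [Field K] : (Fin 8 → K) →ₗ[K] (Fin 8 → K) where
  toFun x := ![x 0, -x 2, -x 1, -x 3, -x 5, -x 4, -x 6, x 7]
  map_add' x y := by apply ext8 <;> simp <;> ring
  map_smul' c x := by apply ext8 <;> simp

theorem g2W_apply (x : Fin 8 → K) : g2W K x = ![x 0, -x 2, -x 1, -x 3, -x 5, -x 4, -x 6, x 7] := rfl

/-- Another reflection of the Weyl group. -/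
def g2S (K : Type*) [Field K] : (Fin 8 → K) →ₗ[K] (Fin 8 → K) where
  toFun x := ![x 0, -x 1, -x 3, -x 2, -x 4, -x 6, -x 5, x 7]
  map_add' x y := by apply ext8 <;> simp <;> ring
  map_smul' c x := by apply ext8 <;> simp

theorem g2S_apply (x : Fin 8 → K) : g2S K x = ![x 0, -x 1, -x 3, -x 2, -x 4, -x 6, -x 5, x 7] := rfl

/-- The torus as a homomorphism to `G₂`. -/
noncomputable def g2T (K : Type*) [Field K] : Kˣ × Kˣ →* G2 K :=
  toG2 ⟨⟨g2D, LinearMap.ext fun x => by apply ext8 <;> simp [g2D_apply]⟩, fun p q => LinearMap.ext fun x => by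
    apply ext8 <;> simp [g2D_apply] <;> ring⟩ fun p x y => by
      change g2D p _ = zornMul (g2D p x) (g2D p y)
      apply ext8 <;> simp [g2D_apply, zm0, zm1, zm2, zm3, zm4, zm5, zm6, zm7] <;> field_simp

theorem act_g2T (p : Kˣ × Kˣ) : act K (g2T K p) = g2D p := act_toG2 _ _ _

theorem g2_ext {a b : G2 K} (h : ∀ x, act K a x = act K b x) : a = b := act_injective (LinearMap.ext h)

theorem g2_elts (K : Type*) [Field K] : ∃ w s h : G2 K, act K w = g2W K ∧ act K s = g2S K ∧ act K h = tauL 1 := by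
  obtain ⟨w, hw⟩ := exists_act (f := g2W K) (LinearMap.ext fun x => by apply ext8 <;> simp [g2W_apply]) fun x y => by
    apply ext8 <;> simp [g2W_apply, zm0, zm1, zm2, zm3, zm4, zm5, zm6, zm7] <;> ring
  obtain ⟨s, hs⟩ := exists_act (f := g2S K) (LinearMap.ext fun x => by apply ext8 <;> simp [g2S_apply]) fun x y => by
    apply ext8 <;> simp [g2S_apply, zm0, zm1, zm2, zm3, zm4, zm5, zm6, zm7] <;> ring
  obtain ⟨h, hh⟩ := exists_act (tauL_sq (one_ne_zero' K)) (isAut_tauL one_ne_zero)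
  exact ⟨w, s, h, hw, hs, hh⟩

theorem g2_psi_one (g g' : SL(2, K)) : psi K ![1, g] * psi K ![1, g'] = psi K ![1, g * g'] := by
  rw [← map_mul]; congr 1; funext i; fin_cases i <;> simp

theorem g2_psi_two (g g' : SL(2, K)) : psi K ![g, 1] * psi K ![g', 1] = psi K ![g * g', 1] := by
  rw [← map_mul]; congr 1; funext i; fin_cases i <;> simp

theorem g2_psi_comm (g g' : SL(2, K)) : psi K ![1, g] * psi K ![g', 1] = psi K ![g', 1] * psi K ![1, g] := by
  rw [← map_mul, ← map_mul]; congr 1; funext i; fin_cases i <;> simp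

theorem g2_psi_id : psi K ![1, 1] = 1 := by
  rw [← map_one (psi K)]; congr 1; funext i; fin_cases i <;> simp

theorem exists_GT_G2 [Fintype K] {n m : ℕ} (hn : 3 ≤ n) (hm : Odd m) (h : Fintype.card K = 2 ^ n * m + 1) :
    ∃ (T : Sylow 2 (Cfsg.Lie.G2 K)) (G : GT (T : Subgroup (Cfsg.Lie.G2 K)) n),
      G.Pk (groupFusionSystem (T : Subgroup (Cfsg.Lie.G2 K))) := by
  have hn2 : 2 ≤ n := by omega
  have hK : Odd (Fintype.card K) := Nat.odd_iff.2 (by have := mod_four_of_add hn2 h; omega)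
  have h2 := two_ne_zero_of_odd hK
  obtain ⟨ω, hω⟩ := exists_unit_orderOf h
  obtain ⟨χ, c1, c2⟩ : ∃ χ : ZMod (2 ^ n) → Kˣ, (∀ i j, χ (i + j) = χ i * χ j) ∧ ∀ i j, χ i = χ j → i = j :=
    ⟨fun i => ω ^ i.val, CL.SL2.pow_val_add (hω ▸ pow_orderOf_eq_one ω), fun _ _ => CL.SL2.pow_val_inj hω⟩
  have c0 : χ 0 = 1 := by simpa using c1 0 0
  have c3 : ∀ i, χ (-i) = (χ i)⁻¹ := fun i => eq_inv_of_mul_eq_one_left (by rw [← c1, neg_add_cancel, c0])
  have c4 : χ (2 * zq n) = -1 := by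
    have := c1 (2 * zq n) (2 * zq n)
    rw [show 2 * zq n + 2 * zq n = 0 by linear_combination four_mul_zq hn2, c0, eq_comm, ← Units.val_inj,
      Units.val_mul, Units.val_one, mul_self_eq_one_iff] at this
    exact Units.ext (this.resolve_left fun e => two_mul_zq_ne_zero hn2 (c2 _ _ ((Units.ext e).trans c0.symm)))
  have c5 : (χ (zq n) : K) * χ (zq n) = -1 := by rw [← Units.val_mul, ← c1, ← two_mul, c4]; rfl
  have c6 : (χ (zq n) : K)⁻¹ = -χ (zq n) := inv_eq_of_mul_eq_one_right (by rw [mul_neg, c5, neg_neg])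
  obtain ⟨w, s, t, hw, hs, ht⟩ := g2_elts K
  have w1 : ∀ a b, w * g2T K (a, b) = g2T K (b, a) * w := fun a b => g2_ext fun x => by
    apply ext8 <;> simp [act_g2T, hw, g2D_apply, g2W_apply, mul_comm]
  have s1 : ∀ a b, s * g2T K (a, b) = g2T K (a, (a * b)⁻¹) * s := fun a b => g2_ext fun x => by
    apply ext8 <;> simp [act_g2T, hs, g2D_apply, g2S_apply, mul_comm]
  have t1 : t * w = w * t := g2_ext fun x => by apply ext8 <;> simp [ht, hw, tauL_apply, g2W_apply]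
  have t2 : t * s = s * t := g2_ext fun x => by apply ext8 <;> simp [ht, hs, tauL_apply, g2S_apply]
  obtain ⟨S, G, e1, e2, e3⟩ := g2_exists hn (fun i j => g2T K (χ i, χ j)) w t
    (fun i j k l => by rw [← map_mul, c1, c1]; rfl)
    (fun i j k l e => ⟨c2 _ _ (Units.ext (by
      simpa [act_g2T, g2D_apply] using congrArg (fun g => act K g (Pi.single 1 1) 1) e)), c2 _ _ (Units.ext (by
        simpa [act_g2T, g2D_apply] using congrArg (fun g => act K g (Pi.single 2 1) 2) e))⟩)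
    (fun i j k l e => by simpa [act_g2T, g2D_apply, hw, g2W_apply] using congrArg (fun g => act K g (Pi.single 1 1) 1) e)
    (g2_ext fun x => by apply ext8 <;> simp [hw, g2W_apply]) (fun i j => w1 _ _)
    (act_injective (by rw [map_mul, ht, tauL_sq one_ne_zero, map_one]))
    (fun i j => g2_ext fun x => by apply ext8 <;> simp [act_g2T, ht, g2D_apply, tauL_apply, c3, mul_comm]) t1
  replace e1 : ∀ i j, G.D.u i j = g2T K (χ i, χ j) := fun i j => by rw [e1]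
  have a1 : ∀ i, G.qq.A.a i = psi K ![1, slD (χ i)] := fun i => (e1 i (-i)).trans (g2_ext fun x => by
    apply ext8 <;> simp [act_g2T, act_psi, g2D_apply, c3, coe_slD, ps0, ps1, ps2, ps3, ps4, ps5, ps6, ps7, mul_comm])
  have a2 : ∀ i, G.qq.B.a i = psi K ![slD (χ i)⁻¹, 1] := fun i => (e1 i i).trans (g2_ext fun x => by
    apply ext8 <;> simp [act_g2T, act_psi, g2D_apply, coe_slD, ps0, ps1, ps2, ps3, ps4, ps5, ps6, ps7] <;>
      field_simp)
  obtain ⟨J, hJ⟩ : ∃ J : SL(2, K), J.1 = !![0, -1; - -1, 0] := ⟨⟨_, by simp [Matrix.det_fin_two_of]⟩, rfl⟩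
  have b1 : G.qq.A.b 0 = psi K ![1, J] := (e2 0 (2 * zq n - 0)).trans (g2_ext fun x => by
    apply ext8 <;> simp [act_g2T, act_psi, g2D_apply, hw, g2W_apply, c0, c4, hJ, ps0, ps1, ps2, ps3, ps4, ps5, ps6, ps7])
  have b2 : G.qq.B.b 0 = psi K ![slW, 1] := (congrArg₂ (· * ·) (e2 0 (0 + 2 * zq n)) e3).trans (g2_ext fun x => by
    apply ext8 <;> simp [act_g2T, act_psi, g2D_apply, hw, g2W_apply, ht, tauL_apply, c0, c4, coe_slW, ps0, ps1, ps2,
      ps3, ps4, ps5, ps6, ps7])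
  have hY : ∀ x ∈ G.D.Y, ∃ g, x = psi K ![1, g] := fun x hx => by
    obtain ⟨i, rfl | rfl⟩ := (G.qq.A.mem x).1 hx
    exacts [⟨_, a1 i⟩, ⟨_, by rw [← add_zero i, ← G.qq.A.a_mul_b, a1, b1, g2_psi_one]⟩]
  have hT : ∀ x ∈ G.T, ∃ g, x = psi K ![g, 1] := fun x hx => by
    obtain ⟨i, rfl | rfl⟩ := (G.qq.B.mem x).1 hx
    exacts [⟨_, a2 i⟩, ⟨_, by rw [← add_zero i, ← G.qq.B.a_mul_b, a2, b2, g2_psi_two]⟩]
  obtain ⟨T, hST⟩ := G.qq.isPGroup.exists_le_sylow
  obtain rfl : S = T := by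
    have d1 := CL.Rank2.two_mul_card_le_of_lt (lt_of_le_of_ne G.K_le fun e => G.h_not_mem (e.ge G.h_mem))
    obtain ⟨c, hc, d2⟩ := card_SL2_eq hn2 hm h
    have d3 := val_G2_le hK
    rw [← CL.Wr.val_card_sl2 hK, d2, padicValNat.mul (by positivity) hc.pos.ne', padicValNat.prime_pow,
      padicValNat.eq_zero_of_not_dvd (Nat.two_dvd_ne_zero.2 (Nat.odd_iff.1 hc))] at d3
    refine eq_of_le_of_card_ge hST (le_trans ?_ d1)
    rw [T.card_eq_multiplicity, Nat.factorization_def _ Nat.prime_two, G.D.card_eq, ← pow_succ']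
    exact Nat.pow_le_pow_right two_pos (by omega)
  refine ⟨T, G, GS.isSaturated_group (sylIn_top T), fun P f hf hz hfz x hx hxY => ?_, ?_, ?_, ?_⟩
  · obtain ⟨-, d1, g, d2⟩ := mor_group_iff.1 hf
    obtain ⟨k, rfl⟩ := hY x hxY
    have d3 : ∀ y, act K G.qq.z y = y ↔ y 1 = 0 ∧ y 2 = 0 ∧ y 4 = 0 ∧ y 5 = 0 := fun y => by
      rw [G.qq_z, e1, c4, act_g2T]
      refine ⟨fun e => ⟨?_, ?_, ?_, ?_⟩, fun ⟨a, b, c, d⟩ => by apply ext8 <;> simp [g2D_apply, *]⟩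
      exacts [by simpa [g2D_apply, neg_eq_iff_add_eq_zero, ← two_mul, h2] using congrFun e 1,
        by simpa [g2D_apply, neg_eq_iff_add_eq_zero, ← two_mul, h2] using congrFun e 2,
        by simpa [g2D_apply, neg_eq_iff_add_eq_zero, ← two_mul, h2] using congrFun e 4,
        by simpa [g2D_apply, neg_eq_iff_add_eq_zero, ← two_mul, h2] using congrFun e 5]
    have d4 : ∀ y, act K G.qq.z y = y → act K (f (psi K ![1, k])) y = y := fun y hy => by
      have d5 : act K G.qq.z (act K g⁻¹ y) = act K g⁻¹ y := by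
        rw [← Module.End.mul_apply, ← map_mul, show G.qq.z * g⁻¹ = g⁻¹ * G.qq.z by
          rw [eq_inv_mul_iff_mul_eq, ← mul_assoc, ← d2 _ hz, hfz], map_mul, Module.End.mul_apply, hy]
      obtain ⟨a, b, c, d⟩ := (d3 _).1 d5
      have d6 : act K (psi K ![1, k]) (act K g⁻¹ y) = act K g⁻¹ y := by
        apply ext8 <;> simp [act_psi, ps0, ps1, ps2, ps3, ps4, ps5, ps6, ps7, -map_inv, a, b, c, d]
      rw [d2 _ hx, map_mul, map_mul, Module.End.mul_apply, Module.End.mul_apply, d6]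
      simpa only [inv_inv] using act_inv_act g⁻¹ y
    have d7 := congrFun (d4 (Pi.single 0 1) ((d3 _).2 (by simp))) 0
    have d8 := congrFun (d4 (Pi.single 3 1) ((d3 _).2 (by simp))) 3
    obtain ⟨i, j, e | e | e | e⟩ := (G.mem _).1 (d1 _ hx) <;> rw [e] at d7 d8 ⊢
    · refine G.D.u_mem_Y.2 (c2 _ _ (Units.ext ?_))
      simp [e1, act_g2T, g2D_apply, -mul_inv_rev] at d8
      simpa [c1, c0] using d8
    · refine G.D.v_mem_Y.2 (c2 _ _ (Units.ext ?_))
      simp [e2, act_g2T, g2D_apply, hw, g2W_apply, -mul_inv_rev, neg_eq_iff_eq_neg, inv_eq_iff_eq_inv] at d8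
      simpa [c1, c4] using d8
    · simp [e1, e3, act_g2T, g2D_apply, ht, tauL_apply] at d7
    · simp [e2, e3, act_g2T, g2D_apply, ht, tauL_apply, hw, g2W_apply] at d7
  · have d1 : ∀ i j, w * s * G.D.u i j * (w * s)⁻¹ = G.D.u (-i - j) i := fun i j => by
      rw [mul_inv_eq_iff_eq_mul, e1, e1, mul_assoc, s1, ← mul_assoc, w1, mul_assoc, ← c1, ← c3, neg_add']
    have d2 : w * s * G.h * (w * s)⁻¹ = G.h := by
      rw [mul_inv_eq_iff_eq_mul, e3, mul_assoc, ← t2, ← mul_assoc, ← t1, mul_assoc]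
    refine ⟨fun x => w * s * x * (w * s)⁻¹, mor_group_iff.2 ⟨G.M_le, ?_, _, fun _ _ => rfl⟩, d1, d2⟩
    rintro _ ⟨i, j, rfl | rfl⟩
    · rw [d1]; exact G.u_mem _ _
    · rw [← conj_mul, d1, d2]; exact mul_mem (G.u_mem _ _) G.h_mem
  · obtain ⟨g, d1, d2, d3⟩ := g2_three h2 (A := slD (χ (zq n))) c5 (by simp : (-1 : K) * -1 = 1)
      (by simp [coe_slD, c6]) hJ
    refine G.qq.g2_th (g := psi K ![1, g]) (fun y hy => ?_) (by simp only [pow_three', g2_psi_one, ← pow_three' g, d1,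
      g2_psi_id]) (by simp only [a1, b1, g2_psi_one, d2]) (by simp only [a1, b1, g2_psi_one, d3])
    obtain ⟨k, rfl⟩ := hT y hy
    exact g2_psi_comm _ _
  · obtain ⟨g, d1, d2, d3⟩ := g2_three h2 (A := slD (χ (zq n))⁻¹) (ι := -χ (zq n)) (by simpa using c5) (one_mul 1)
      (by simp [coe_slD, c6]) coe_slW
    refine G.qq.symm.g2_th (g := psi K ![g, 1]) (fun y hy => ?_) (by simp only [pow_three', g2_psi_two,
      ← pow_three' g, d1, g2_psi_id]) (show _ * G.qq.B.a _ = G.qq.B.b _ * _ by simp only [a2, b2, g2_psi_two, d2])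
      (show _ * G.qq.B.b _ = G.qq.B.a _ * G.qq.B.b _ * _ by simp only [a2, b2, g2_psi_two, d3])
    obtain ⟨k, rfl⟩ := hY y hy
    exact (g2_psi_comm _ _).symm

end CL.WQ
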