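/-
Weakly closed quaternion subgroups: the action on the quaternion group, its conjugates `Rz`, and the dichotomy.
-/
import Cfsg.Agent.WQ.Defs

set_option autoImplicit false

open Cfsg Cfsg.FusionSystem Subgroup CL.Inv CL.Grp CL.Fus
open scoped Pointwise

namespace CL.WQ

variable {Ω : Type*} [Group Ω] {S R P : Subgroup Ω} {F : FusionSystem S} {n : ℕ} {D : MC R n 0 (2 * zq n)}
  {g g' x y c : Ω} {i j i' j' : ZMod (2 ^ n)} {f : Ω → Ω}

theorem half_mul_odd (hn : 2 ≤ n) (r : ZMod (2 ^ n)) : (2 * r + 1) * (2 * zq n) = 2 * zq n := by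
  linear_combination r * four_mul_zq hn

theorem odd_of_half_ne (hn : 2 ≤ n) (h : i * (2 * zq n) ≠ 0) : ∃ r, i = 2 * r + 1 := by
  obtain ⟨r, e | e⟩ := zm_even_or_odd i
  · exact absurd (by rw [e]; linear_combination r * four_mul_zq hn) h
  · exact ⟨r, e⟩

theorem eq_zero_of_odd_mul {r k : ZMod (2 ^ n)} (h : (2 * r + 1) * k = 0) : k = 0 := by
  obtain ⟨w, hw⟩ := zm_odd_unit r
  linear_combination w * h - k * hw

theorem cast_half (hn : 2 ≤ n) : ((2 ^ (n - 1) : ℕ) : ZMod (2 ^ n)) = 2 * zq n := by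
  rw [two_mul_zq hn]; simp

namespace Act

theorem mul (h : Act D g i j) (h' : Act D g' i' j') : Act D (g * g') (i * i') (j + i * j') :=
  ⟨fun k => by rw [show g * g' * D.a k * (g * g')⁻¹ = g * (g' * D.a k * g'⁻¹) * g⁻¹ by group, h'.1, h.1, mul_assoc],
    fun k => by
      rw [show g * g' * D.b k * (g * g')⁻¹ = g * (g' * D.b k * g'⁻¹) * g⁻¹ by group, h'.2, h.2]; congr 1; ring⟩

theorem unique (h : Act D g i j) (h' : Act D g i' j') : i = i' ∧ j = j' :=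
  ⟨by simpa using D.a_eq_iff.1 ((h.1 1).symm.trans (h'.1 1)), by simpa using D.b_eq_iff.1 ((h.2 0).symm.trans (h'.2 0))⟩

theorem congr (h : Act D g i j) (e : i = i') (e' : j = j') : Act D g i' j' := e ▸ e' ▸ h

theorem comm (h : Act D g 1 0) (hx : x ∈ R) : g * x = x * g := by
  obtain ⟨k, rfl | rfl⟩ := (D.mem x).1 hx
  · exact mul_inv_eq_iff_eq_mul.1 (by rw [h.1, one_mul])
  · exact mul_inv_eq_iff_eq_mul.1 (by rw [h.2, one_mul, add_zero])

theorem of_comm (h : ∀ x ∈ R, g * x = x * g) : Act D g 1 0 :=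
  ⟨fun k => by rw [h _ (D.a_mem k), mul_inv_cancel_right, one_mul],
    fun k => by rw [h _ (D.b_mem k), mul_inv_cancel_right, one_mul, add_zero]⟩

theorem one : Act D 1 1 0 := of_comm fun _ _ => by simp

theorem of_a (k : ZMod (2 ^ n)) : Act D (D.a k) 1 (2 * k) :=
  ⟨fun l => by rw [D.conj_a_a, one_mul], fun l => by rw [D.conj_a_b]; congr 1; ring⟩

theorem of_b (k : ZMod (2 ^ n)) : Act D (D.b k) (-1) (2 * k) :=
  ⟨fun l => by rw [D.conj_b_a]; congr 1; ring, fun l => by rw [D.conj_b_b]; congr 1; ring⟩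

theorem pow (h : Act D g 1 j) (m : ℕ) : Act D (g ^ m) 1 (m * j) := by
  induction m with
  | zero => exact pow_zero g ▸ one.congr rfl (by simp)
  | succ m ih => exact pow_succ g m ▸ (ih.mul h).congr (by ring) (by push_cast; ring)

theorem inv (h : Act D g 1 j) : Act D g⁻¹ 1 (-j) :=
  ⟨fun k => by rw [inv_inv, mul_assoc, inv_mul_eq_iff_eq_mul, mul_inv_eq_iff_eq_mul.1 (h.1 _), one_mul, one_mul],
    fun k => by
      rw [inv_inv, mul_assoc, inv_mul_eq_iff_eq_mul, mul_inv_eq_iff_eq_mul.1 (h.2 _)]; congr 2; ring⟩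

theorem comm_a (h : Act D g i j) {k : ZMod (2 ^ n)} : g * D.a k = D.a k * g ↔ i * k = k := by
  rw [← mul_inv_eq_iff_eq_mul, h.1, D.a_eq_iff]

theorem comm_b (h : Act D g i j) {k : ZMod (2 ^ n)} : g * D.b k = D.b k * g ↔ i * k + j = k := by
  rw [← mul_inv_eq_iff_eq_mul, h.2, D.b_eq_iff]

theorem odd (h : Act D g i j) : ∃ r, i = 2 * r + 1 := odd_of_half_ne D.two_le fun e => by
  have := h.1 (2 * zq n)
  rw [e, D.a_zero, conj_eq_one_iff, D.a_eq_one_iff] at this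
  exact D.h2 this

theorem sq (h : Act D g i j) (hg : g * g = 1) : i * i = 1 ∧ j + i * j = 0 := (hg ▸ h.mul h).unique one

end Act

theorem exists_pow_eq_z (hx : x ∈ R) (h1 : x ≠ 1) : ∃ k : ℕ, x ^ k = D.a (2 * zq n) := by
  obtain ⟨m, hm⟩ := IsPGroup.iff_orderOf.1 D.isPGroup ⟨x, hx⟩
  rw [Subgroup.orderOf_mk] at hm
  rcases m with _ | m
  · exact absurd (orderOf_eq_one_iff.1 hm) h1
  refine ⟨2 ^ m, (D.quaternion_involution (pow_mem hx _) ?_).resolve_left (pow_ne_one_of_lt_orderOf (by positivity)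
    (hm ▸ Nat.pow_lt_pow_right one_lt_two (by omega)))⟩
  rw [← pow_two, ← pow_mul, ← pow_succ, ← hm, pow_orderOf_eq_one]

theorem eq_a_of_pow_four (hx : x ∈ R) (h : x ^ 4 ≠ 1) : ∃ k, x = D.a k := by
  obtain ⟨k, rfl | rfl⟩ := (D.mem x).1 hx
  exacts [⟨k, rfl⟩, absurd (D.b_pow_four k) h]

theorem z_mul_z : D.a (2 * zq n) * D.a (2 * zq n) = 1 := by
  rw [D.a_mul_a, D.a_eq_one_iff]; linear_combination D.h4

theorem q_mul_q : D.a (zq n) * D.a (zq n) = D.a (2 * zq n) := by rw [D.a_mul_a, ← two_mul]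

theorem z_ne_one : D.a (2 * zq n) ≠ 1 := fun e => D.h2 (D.a_eq_one_iff.1 e)

theorem a_one_pow_half : D.a 1 ^ 2 ^ (n - 1) = D.a (2 * zq n) := by rw [D.a_pow, cast_half D.two_le, mul_one]

theorem a_one_pow : D.a 1 ^ 2 ^ n = 1 := orderOf_dvd_iff_pow_eq_one.1 D.orderOf_a_one.dvd

/-- A generator of a cyclic conjugate of order `2 ^ n`. -/
structure Big (F : FusionSystem S) (D : MC R n 0 (2 * zq n)) (d : Ω) : Prop where
  mem : d ∈ S
  act : Act D d 1 1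
  rz : Rz F D (d ^ 2 ^ (n - 1)) d
  pow : d ^ 2 ^ n = 1

theorem Rz.isConjElt (h : Rz F D y x) : F.IsConjElt y (D.a (2 * zq n)) := by
  obtain ⟨P, f, hf, hy, -, e, -⟩ := h
  exact e ▸ hf.isConjElt hy

theorem Rz.pow (h : Rz F D y x) (k : ℕ) : Rz F D y (x ^ k) := by
  obtain ⟨P, f, hf, hy, hx, e, hR⟩ := h
  exact ⟨P, f, hf, hy, pow_mem hx k, e, hf.homOn.map_pow hx k ▸ pow_mem hR k⟩

theorem Rz.inv (h : Rz F D y x) : Rz F D y x⁻¹ := by
  obtain ⟨P, f, hf, hy, hx, e, hR⟩ := h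
  exact ⟨P, f, hf, hy, inv_mem hx, e, hf.homOn.map_inv hx ▸ inv_mem hR⟩

theorem Rz.exists_pow (h : Rz F D y x) (h1 : x ≠ 1) : ∃ k : ℕ, x ^ k = y := by
  obtain ⟨P, f, hf, hy, hx, e, hR⟩ := h
  obtain ⟨k, hk⟩ := exists_pow_eq_z (D := D) hR fun e => h1 (hf.injOn hx P.one_mem (e.trans hf.homOn.map_one.symm))
  exact ⟨k, hf.injOn (pow_mem hx k) hy (by rw [hf.homOn.map_pow hx, hk, e])⟩

theorem Rz.mem_cen (h : Rz F D y x) : x ∈ cen S y := by
  obtain ⟨P, f, hf, hy, hx, e, hR⟩ := h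
  exact WQ.mem_cen.2 ⟨hf.le hx, hf.injOn (mul_mem hx hy) (mul_mem hy hx) (by
    rw [hf.homOn.map_mul hx hy, hf.homOn.map_mul hy hx, e, D.z_mul_comm hR])⟩

theorem Rz.map (h : Rz F D y x) (hf : Mor F P f) (hy : y ∈ P) (hx : x ∈ P) : Rz F D (f y) (f x) := by
  obtain ⟨Q, k, hk, hy', hx', e, hR⟩ := h
  obtain ⟨g, hg, e1, -, e2⟩ := (hf.mono (inf_le_left : P ⊓ Q ≤ P)).exists_inv
  refine ⟨_, fun t => k (g t), hg.comp hk fun t ht => (e2.le (mem_img_of_mem g ht)).2, mem_img_of_mem f ⟨hy, hy'⟩,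
    mem_img_of_mem f ⟨hx, hx'⟩, ?_, ?_⟩
  · exact (congrArg k (e1 y ⟨hy, hy'⟩)).trans e
  · show k (g (f x)) ∈ R
    rwa [e1 x ⟨hx, hx'⟩]

theorem Rz.mem (h : Rz F D y x) : y ∈ S := by
  obtain ⟨P, f, hf, hy, -⟩ := h
  exact hf.le hy

theorem Rz.conj (h : Rz F D y x) (hg : g ∈ cen S y) : Rz F D y (g * x * g⁻¹) := by
  have := h.map (mor_conj F le_rfl hg.1) h.mem h.mem_cen.1
  rwa [(WQ.mem_cen.1 hg).2, mul_inv_cancel_right] at this

namespace Hyp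

variable (H : Hyp F D)
include H

theorem z_mem : D.a (2 * zq n) ∈ S := H.le (D.a_mem _)

theorem conj_mem (hg : g ∈ S) (hx : x ∈ R) : g * x * g⁻¹ ∈ R := H.wc _ (mor_conj F H.le hg) x hx

theorem a_one_pow_four : D.a 1 ^ 4 ≠ 1 := fun e => by
  rw [D.a_pow, D.a_eq_one_iff] at e
  exact zm_four_ne_zero H.three (by simpa using e)

theorem exists_act (hg : g ∈ S) : ∃ i j, Act D g i j := by
  obtain ⟨i, hi⟩ := eq_a_of_pow_four (D := D) (H.conj_mem hg (D.a_mem 1)) (by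
    rw [conj_pow, Ne, conj_eq_one_iff]; exact H.a_one_pow_four)
  have h1 : ∀ k, g * D.a k * g⁻¹ = D.a (i * k) := fun k => by
    obtain ⟨m, rfl⟩ := zm_natCast_surj k
    rw [← mul_one (m : ZMod (2 ^ n)), ← D.a_pow, ← conj_pow, hi, D.a_pow]; congr 1; ring
  obtain ⟨j, hj | hj⟩ := (D.mem _).1 (H.conj_mem hg (D.b_mem 0))
  · refine absurd ?_ (D.not_b_comm_q 0)
    rw [← MulAut.conj g |>.apply_eq_iff_eq, map_mul, map_mul, MulAut.conj_apply, MulAut.conj_apply, hj, h1, D.a_mul_a,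
      D.a_mul_a, add_comm]
  · refine ⟨i, j, h1, fun k => ?_⟩
    rw [← add_zero k, ← D.a_mul_b, ← conj_mul, h1, hj, D.a_mul_b, add_zero]

theorem z_comm (hg : g ∈ S) : g * D.a (2 * zq n) = D.a (2 * zq n) * g := by
  obtain ⟨i, j, h⟩ := H.exists_act hg
  obtain ⟨r, rfl⟩ := h.odd
  exact h.comm_a.2 (half_mul_odd D.two_le r)

theorem z_mem_cen (hy : y ∈ S) : D.a (2 * zq n) ∈ cen S y := mem_cen.2 ⟨H.z_mem, (H.z_comm hy).symm⟩

theorem ri : RI F R (D.a (2 * zq n)) := H.fix _ H.z_mem z_mul_z z_ne_one fun _ hx => (D.z_mul_comm hx).symm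

theorem exists_al (hy : F.IsConjElt y (D.a (2 * zq n))) : ∃ α, Mor F (cen S y) α ∧ α y = D.a (2 * zq n) :=
  have := H.fin
  exists_mor_cen H.pS H.sat hy (fullyCentralized_of_central H.z_mem fun _ => H.z_comm)

omit H in
theorem conj_facts (hy : F.IsConjElt y (D.a (2 * zq n))) : y ∈ S ∧ y * y = 1 ∧ y ≠ 1 := by
  obtain ⟨f, hf, e⟩ := isConjElt_iff.1 hy
  have h := mem_zpowers y
  exact ⟨hf.le h, hf.injOn (mul_mem h h) (one_mem _) (by rw [hf.homOn.map_mul h h, e, z_mul_z, hf.homOn.map_one]),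
    fun e' => z_ne_one (by rw [← e, e', hf.homOn.map_one])⟩

/-- A map defined on `R` fixes `z`. -/
theorem map_z (hf : Mor F P f) (hR : R ≤ P) : f (D.a (2 * zq n)) = D.a (2 * zq n) := by
  have h := hR (D.a_mem (2 * zq n))
  refine (D.quaternion_involution (H.wc f (hf.mono hR) _ (D.a_mem _)) ?_).resolve_left fun e =>
    z_ne_one (hf.injOn h P.one_mem (e.trans hf.homOn.map_one.symm))
  rw [← hf.homOn.map_mul h h, z_mul_z, hf.homOn.map_one]

theorem eq_z (hy : F.IsConjElt y (D.a (2 * zq n))) (h : Act D y 1 0) : y = D.a (2 * zq n) := by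
  obtain ⟨α, hα, e⟩ := H.exists_al hy
  have hR : R ≤ cen S y := fun x hx => mem_cen.2 ⟨H.le hx, (h.comm hx).symm⟩
  exact hα.injOn (self_mem_cen (conj_facts hy).1) (hR (D.a_mem _)) (e.trans (H.map_z hα hR).symm)

theorem rz_all (h : Rz F D y x) (hf : Mor F P f) (hy : y ∈ P) (hx : x ∈ P) (e : f y = D.a (2 * zq n)) : f x ∈ R := by
  obtain ⟨Q, k, hk, hy', hx', e', hR⟩ := h
  obtain ⟨g, hg, e1, -, e2⟩ := (hk.mono (inf_le_right : P ⊓ Q ≤ Q)).exists_inv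
  have := H.ri _ (fun t => f (g t)) (hg.comp hf fun t ht => (e2.le (mem_img_of_mem g ht)).1)
    (e' ▸ mem_img_of_mem k ⟨hy, hy'⟩) (by rw [← e', e1 y ⟨hy, hy'⟩, e, e']) _ (mem_img_of_mem k ⟨hx, hx'⟩) hR
  rwa [e1 x ⟨hx, hx'⟩] at this

theorem rz_z (hx : x ∈ R) : Rz F D (D.a (2 * zq n)) x := ⟨S, _, mor_id F le_rfl, H.z_mem, H.le hx, rfl, hx⟩

theorem mem_of_rz (h : Rz F D (D.a (2 * zq n)) x) : x ∈ R :=
  H.rz_all h (mor_id F le_rfl) H.z_mem h.mem_cen.1 rfl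

theorem rz_mul {x' : Ω} (h : Rz F D y x) (h' : Rz F D y x') : Rz F D y (x * x') := by
  obtain ⟨α, hα, e⟩ := H.exists_al h.isConjElt
  have hy := self_mem_cen (conj_facts h.isConjElt).1
  exact ⟨_, α, hα, hy, mul_mem h.mem_cen h'.mem_cen, e, hα.homOn.map_mul h.mem_cen h'.mem_cen ▸
    mul_mem (H.rz_all h hα hy h.mem_cen e) (H.rz_all h' hα hy h'.mem_cen e)⟩

theorem rz_eq_one (h : Rz F D y x) (hy : y ≠ D.a (2 * zq n)) (hx : Act D x 1 0 ∨ x ∈ R) : x = 1 := by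
  by_contra h1
  obtain ⟨k, rfl⟩ := h.exists_pow h1
  rcases hx with hx | hx
  · exact hy (H.eq_z h.isConjElt ((hx.pow k).congr rfl (mul_zero _)))
  · have := conj_facts h.isConjElt
    exact hy ((D.quaternion_involution (pow_mem hx k) this.2.1).resolve_left this.2.2)

theorem act_conj (hg : g ∈ S) (hc : Act D c 1 0) : Act D (g * c * g⁻¹) 1 0 := Act.of_comm fun x hx => by
  have := hc.comm (H.conj_mem (inv_mem hg) hx)
  calc g * c * g⁻¹ * x = g * (c * (g⁻¹ * x * g⁻¹⁻¹)) * g⁻¹ := by group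
    _ = _ := by rw [this]; group

/-- `Rz y` commutes with the elements of `R` and of `C_S(R)` that centralise `y`. -/
theorem rz_comm (h : Rz F D y x) (hy : y ≠ D.a (2 * zq n)) (hc : c ∈ cen S y) (h1 : Act D c 1 0 ∨ c ∈ R) :
    x * c = c * x := by
  have h2 := H.rz_eq_one (H.rz_mul h (h.inv.conj hc)) hy (h1.imp (fun a => ?_) fun a => ?_)
  · calc x * c = x * (c * x⁻¹ * c⁻¹) * (c * x) := by group
      _ = _ := by rw [h2, one_mul]
  · have := ((H.act_conj h.mem_cen.1 a).mul a.inv).congr (one_mul _) (show _ = 0 by ring)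
    rwa [show x * c * x⁻¹ * c⁻¹ = x * (c * x⁻¹ * c⁻¹) by group] at this
  · have := mul_mem (H.conj_mem h.mem_cen.1 a) (inv_mem a)
    rwa [show x * c * x⁻¹ * c⁻¹ = x * (c * x⁻¹ * c⁻¹) by group] at this

theorem act_one_of_comm (hg : g ∈ S) (h : g * D.a 1 = D.a 1 * g) : ∃ j, Act D g 1 j := by
  obtain ⟨i, j, a⟩ := H.exists_act hg
  exact ⟨j, a.congr (by simpa using a.comm_a.1 h) rfl⟩

theorem rz_act_one (h : Rz F D y x) (hy : y ≠ D.a (2 * zq n)) (a : Act D y 1 j) : ∃ j, Act D x 1 j :=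
  H.act_one_of_comm h.mem_cen.1 (H.rz_comm h hy (mem_cen.2 ⟨H.le (D.a_mem 1), (a.comm_a.2 (one_mul _)).symm⟩)
    (Or.inr (D.a_mem 1)))

theorem rz_abelian {x' : Ω} (h : Rz F D y x) (h' : Rz F D y x') (hy : y ≠ D.a (2 * zq n)) : x * x' = x' * x := by
  have hκ := H.rz_mul h (h.inv.conj h'.mem_cen)
  by_contra hne
  have h1 : x * (x' * x⁻¹ * x'⁻¹) ≠ 1 := fun e => hne (by
    calc x * x' = x * (x' * x⁻¹ * x'⁻¹) * (x' * x) := by group
      _ = _ := by rw [e, one_mul])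
  have e : x * (x' * x⁻¹ * x'⁻¹) * (x' * x) = x * x' := by group
  obtain ⟨i, j, a⟩ := H.exists_act h.mem_cen.1
  obtain ⟨i', j', a'⟩ := H.exists_act h'.mem_cen.1
  obtain ⟨l, m, b⟩ := H.exists_act hκ.mem_cen.1
  have h2 := (e ▸ b.mul (a'.mul a)).unique (a.mul a')
  obtain ⟨r, hr⟩ := (a.mul a').odd
  obtain rfl : l = 1 := sub_eq_zero.1 (eq_zero_of_odd_mul (r := r) (by linear_combination h2.1 - (l - 1) * hr))
  obtain ⟨k, hk⟩ := hκ.exists_pow h1
  have c := hk ▸ b.pow k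
  obtain ⟨s, hs⟩ := H.rz_act_one h hy c
  obtain ⟨s', hs'⟩ := H.rz_act_one h' hy c
  exact h1 (H.rz_eq_one hκ hy (Or.inl ((hs.mul ((hs'.mul hs.inv).mul hs'.inv)).congr (by ring) (by ring))))

omit H in
/-- The image of `z` under a map taking `y ≠ z` to `z`. -/
theorem map_z_ne (hf : Mor F P f) (hy : y ∈ P) (hz : D.a (2 * zq n) ∈ P) (e : f y = D.a (2 * zq n))
    (h : y ≠ D.a (2 * zq n)) : F.IsConjElt (f (D.a (2 * zq n))) (D.a (2 * zq n)) ∧ f (D.a (2 * zq n)) ≠ D.a (2 * zq n) :=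
  ⟨isConjElt_symm (hf.isConjElt hz), fun e' => h (hf.injOn hy hz (e.trans e'.symm))⟩

omit H in
/-- An involution acting as `1 + 2 ^ (n - 1)` centralises a nonabelian subgroup. -/
theorem exists_b_of_four (hn : 3 ≤ n) (a : Act D y (1 + 2 * zq n) j) (hy : y * y = 1) :
    y * D.a 2 = D.a 2 * y ∧ ∃ m, y * D.b m = D.b m * y ∧ D.a 2 * D.b m ≠ D.b m * D.a 2 := by
  have h1 := (a.sq hy).2
  have h2 : 2 * j = 0 := eq_zero_of_odd_mul (r := 2 ^ (n - 3)) (by rw [← zq_even hn]; linear_combination h1)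
  have h3 : ∀ m, D.a 2 * D.b m ≠ D.b m * D.a 2 := fun m e => by
    rcases D.a_comm_b e with e | e
    exacts [zm_two_ne_zero D.two_le e, zm_four_ne_zero hn (by linear_combination 2 * e + D.h4)]
  refine ⟨a.comm_a.2 (by linear_combination D.h4), ?_⟩
  rcases zm_two_mul_eq_zero D.two_le h2 with rfl | rfl
  exacts [⟨0, a.comm_b.2 (by ring), h3 0⟩, ⟨1, a.comm_b.2 (by linear_combination D.h4), h3 1⟩]

theorem not_four (hy : F.IsConjElt y (D.a (2 * zq n))) : ¬ Act D y (1 + 2 * zq n) j := fun a => by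
  obtain ⟨h1, m, h2, h3⟩ := exists_b_of_four H.three a (conj_facts hy).2.1
  obtain ⟨α, hα, e⟩ := H.exists_al hy
  have hS := (conj_facts hy).1
  have hz := H.z_mem_cen hS
  have c1 : D.a 2 ∈ cen S y := mem_cen.2 ⟨H.le (D.a_mem _), h1.symm⟩
  have c2 : D.b m ∈ cen S y := mem_cen.2 ⟨H.le (D.b_mem _), h2.symm⟩
  refine h3 (hα.injOn (mul_mem c1 c2) (mul_mem c2 c1) ?_)
  rw [hα.homOn.map_mul c1 c2, hα.homOn.map_mul c2 c1]
  refine H.rz_abelian ((H.rz_z (D.a_mem _)).map hα hz c1) ((H.rz_z (D.b_mem _)).map hα hz c2)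
    (map_z_ne hα (self_mem_cen hS) hz e fun e' => D.h2 ?_).2
  have := (e' ▸ a).unique (Act.of_a _)
  linear_combination this.1

/-- A conjugate of `z` that is a square acts as `a (zq n)`. -/
theorem type_one (hy : F.IsConjElt y (D.a (2 * zq n))) (h : y ≠ D.a (2 * zq n)) (hx : x ∈ S) (e : y = x * x) :
    Act D y 1 (2 * zq n) := by
  obtain ⟨i, j, a⟩ := H.exists_act hx
  obtain ⟨r, rfl⟩ := a.odd
  have b := e ▸ a.mul a
  have h1 := b.sq (conj_facts hy).2.1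
  have h2 : 2 * ((2 * r + 1) * (2 * r + 1) - 1) = 0 :=
    eq_zero_of_odd_mul (r := r * r + r) (by linear_combination h1.1)
  rcases zm_two_mul_eq_zero D.two_le h2 with h3 | h3
  · have b' := b.congr (sub_eq_zero.1 h3) rfl
    rcases zm_two_mul_eq_zero D.two_le (i := j + (2 * r + 1) * j) (by
      linear_combination (b'.sq (conj_facts hy).2.1).2) with h4 | h4
    exacts [absurd (H.eq_z hy (b'.congr rfl h4)) h, b'.congr rfl h4]
  · exact absurd (b.congr (by linear_combination h3) rfl) (H.not_four hy)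

theorem type_one_map (hf : Mor F P f) (hy : y ∈ P) (hc : c ∈ P) (e : f y = D.a (2 * zq n)) (h : y ≠ D.a (2 * zq n))
    (hcc : c * c = D.a (2 * zq n)) : Act D (f (D.a (2 * zq n))) 1 (2 * zq n) :=
  have h1 := map_z_ne hf hy (hcc ▸ mul_mem hc hc) e h
  H.type_one h1.1 h1.2 (hf.mem hc) (by rw [← hcc, hf.homOn.map_mul hc hc])

theorem big_of (hf : Mor F P f) (hy : y ∈ P) (hc : D.a 1 ∈ P) (e : f y = D.a (2 * zq n)) (h : y ≠ D.a (2 * zq n)) :
    ∃ w : ℕ, Odd w ∧ Big F D (f (D.a 1) ^ w) ∧ (f (D.a 1) ^ w) ^ 2 ^ (n - 1) = f (D.a (2 * zq n)) := by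
  have hk : ∀ k, D.a k ∈ P := fun k => zpowers_le.2 hc (D.mem_cyc.2 ⟨k, rfl⟩)
  have h1 := map_z_ne hf hy (hk _) e h
  have h2 := H.type_one_map hf hy (hk (zq n)) e h q_mul_q
  have h3 := (H.rz_z (D.a_mem 1)).map hf (hk _) hc
  obtain ⟨j, a⟩ := H.rz_act_one h3 h1.2 h2
  have h4 : f (D.a 1) ^ 2 ^ (n - 1) = f (D.a (2 * zq n)) := by rw [← hf.homOn.map_pow hc, a_one_pow_half]
  have h5 := ((h4 ▸ a.pow _).unique h2).2
  rw [cast_half D.two_le] at h5
  obtain ⟨r, rfl⟩ := odd_of_half_ne (i := j) D.two_le (by rw [mul_comm, h5]; exact D.h2)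
  obtain ⟨w, hw⟩ := zm_odd_unit r
  obtain ⟨w, rfl⟩ := zm_natCast_surj w
  have hw' : Odd w := by
    rcases Nat.even_or_odd w with ⟨t, rfl⟩ | h
    · exact absurd (show 2 * ((2 * r + 1) * t) = 2 * 0 + 1 by push_cast at hw; linear_combination hw)
        (zm_even_ne_odd (by have := H.three; omega) _ _)
    · exact h
  have h6 : (f (D.a 1) ^ w) ^ 2 ^ (n - 1) = f (D.a (2 * zq n)) := by
    obtain ⟨t, rfl⟩ := hw'
    rw [pow_right_comm, h4, pow_succ, pow_mul, pow_two, (conj_facts h1.1).2.1, one_pow, one_mul]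
  refine ⟨w, hw', ⟨pow_mem (hf.mem hc) w, (a.pow w).congr rfl (by linear_combination hw), h6 ▸ h3.pow w, ?_⟩, h6⟩
  rw [pow_right_comm, ← hf.homOn.map_pow hc, a_one_pow,
    hf.homOn.map_one, one_pow]

/-- The dichotomy. -/
theorem cases : (∀ y, F.IsConjElt y (D.a (2 * zq n)) → y ≠ D.a (2 * zq n) → ∃ r, Act D y (-1) (2 * r + 1)) ∨
    ∃ d, Big F D d := by
  refine or_iff_not_imp_left.2 fun h => ?_
  push Not at h
  obtain ⟨y, hy, h1, h⟩ := h
  obtain ⟨hS, hyy, -⟩ := conj_facts hy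
  obtain ⟨i, j, a⟩ := H.exists_act hS
  obtain ⟨c, hc, hcy, hcc⟩ : ∃ c ∈ R, y * c = c * y ∧ c * c = D.a (2 * zq n) := by
    obtain ⟨r, rfl⟩ := a.odd
    obtain ⟨t, rfl | rfl⟩ := zm_even_or_odd r
    · exact ⟨_, D.a_mem (zq n), a.comm_a.2 (by linear_combination t * D.h4), q_mul_q⟩
    obtain ⟨s, rfl | rfl⟩ := zm_even_or_odd j
    · obtain ⟨w, hw⟩ := zm_odd_unit t
      exact ⟨_, D.b_mem (-s * w), a.comm_b.2 (by linear_combination -2 * s * hw), by rw [D.b_mul_self]; simp⟩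
    · exact absurd (a.congr (eq_neg_of_add_eq_zero_left (eq_zero_of_odd_mul (r := s) (by
        linear_combination (a.sq hyy).2))) rfl) (h s)
  obtain ⟨α, hα, e⟩ := H.exists_al hy
  have hc' : c ∈ cen S y := mem_cen.2 ⟨H.le hc, hcy.symm⟩
  have h2 := map_z_ne hα (self_mem_cen hS) (H.z_mem_cen hS) e h1
  have h3 := H.type_one_map hα (self_mem_cen hS) hc' e h1 hcc
  obtain ⟨β, hβ, e'⟩ := H.exists_al h2.1
  obtain ⟨w, -, hw, -⟩ := H.big_of hβ (self_mem_cen (conj_facts h2.1).1)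
    (mem_cen.2 ⟨H.le (D.a_mem 1), (h3.comm_a.2 (one_mul _)).symm⟩) e' h2.2
  exact ⟨_, hw⟩

end Hyp

end CL.WQ
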