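/-
Weakly closed quaternion subgroups: the automizers of `Q₈ ∘ T` and the comparison of centralizer systems.
-/
import Cfsg.Agent.WQ.Defs

set_option autoImplicit false

open Cfsg Cfsg.FusionSystem Subgroup CL.Inv CL.Grp CL.Fus
open scoped Pointwise

namespace CL.WQ

variable {Ω : Type*} [Group Ω] {S R T : Subgroup Ω} {F : FusionSystem S} {n : ℕ}

namespace QQ

variable (Q : QQ S R T n) {i : ZMod (2 ^ n)} {g : Ω}

theorem cen_hk : ∃ c, 2 * zq n = zq n * c := ⟨2, mul_comm _ _⟩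

theorem cen_N (hg : g ∈ S) (h : g * Q.A.b i * g⁻¹ ∈ Q.A.sub (zq n) i) : ∃ x ∈ R, ∃ y ∈ T, g = x * y := by
  obtain ⟨x, hx, y, hy, rfl | rfl⟩ := (Q.mem g).1 hg
  · exact ⟨x, hx, y, hy, rfl⟩
  exfalso
  have e : x * y * Q.d * Q.A.b i * (x * y * Q.d)⁻¹ = x * Q.A.b (i + 1) * x⁻¹ :=
    calc _ = x * (y * (Q.d * Q.A.b i * Q.d⁻¹)) * y⁻¹ * x⁻¹ := by group
      _ = _ := by rw [Q.d_b, ← Q.comm _ (Q.A.b_mem _) y hy]; group
  have h1 : 1 ≤ n := by have := Q.three; omega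
  rw [e] at h
  obtain ⟨j, rfl | rfl⟩ := (Q.A.mem x).1 hx
  · rw [Q.A.conj_a_b, Q.A.b_mem_sub cen_hk, zq_even Q.three] at h
    obtain ⟨r, h⟩ := h
    exact zm_even_ne_odd h1 (2 ^ (n - 3) * r) j (by linear_combination -h)
  · rw [Q.A.conj_b_b, Q.A.b_mem_sub cen_hk, zq_even Q.three] at h
    obtain ⟨r, h⟩ := h
    exact zm_even_ne_odd h1 j (i + 2 ^ (n - 3) * r) (by linear_combination h)

theorem cen_zT : zpowers Q.z ≤ T := zpowers_le.2 (Q.symm_z ▸ Q.B.a_mem _)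

theorem cen_zsub (i : ZMod (2 ^ n)) : zpowers Q.z ≤ Q.A.sub (zq n) i :=
  zpowers_le.2 ((Q.A.a_mem_sub cen_hk _ _).2 cen_hk)

theorem cen_Z (hg : g ∈ S) (h1 : Q.A.a (zq n) * g = g * Q.A.a (zq n)) (h2 : Q.A.b i * g = g * Q.A.b i) : g ∈ T := by
  obtain ⟨x, hx, y, hy, rfl⟩ := Q.cen_N (i := i) hg (by rw [← h2, mul_inv_cancel_right]; exact Q.A.b_mem_sub_self _ _)
  have key : ∀ r ∈ R, r * (x * y) = x * y * r → r ∈ centralizer {x} := fun r hr e => by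
    rw [mul_assoc, ← Q.comm r hr y hy, ← mul_assoc, ← mul_assoc, mul_left_inj] at e
    exact mem_centralizer_singleton_iff.2 e
  have h3 := Q.A.sub_le_iff.2 ⟨key _ (Q.A.a_mem _) h1, key _ (Q.A.b_mem _) h2⟩
  exact mul_mem (Q.cen_zT ((Q.A.centralizer_sub_q i).le
    ⟨fun r hr => mem_centralizer_singleton_iff.1 (h3 hr), hx⟩)) hy

theorem cen_I (h1 : g ∈ R) (h2 : g ∈ T) : g ∈ zpowers Q.z :=
  (Q.A.centralizer_sub_q 0).le ⟨fun r hr => Q.comm r (Q.A.sub_le _ _ hr) g h2, h1⟩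

theorem cen_mem_P : g ∈ Q.P i ↔ ∃ x ∈ Q.A.sub (zq n) i, ∃ y ∈ T, g = x * y :=
  mem_sup_iff_of_le_centralizer fun y hy x hx => Q.comm x (Q.A.sub_le _ _ hx) y hy

theorem cen_card_fix (i : ZMod (2 ^ n)) : Nat.card (fixAut (Q.P i) T) ∣ 2 ^ 3 * 3 := by
  have := Q.finite
  have hQ : Q.A.sub (zq n) i ≤ Q.P i := le_sup_left
  have hT : T ≤ Q.P i := le_sup_right
  have := finite_of_le (hQ.trans (Q.P_le i))
  obtain ⟨e⟩ := Q.A.nonempty_quaternion_sub_q (i := i) (by ring)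
  rw [show 2 ^ 3 * 3 = 24 from rfl, ← card_mulAut_of_quaternion e]
  refine card_dvd_card_mulAut_of_res hQ (fun α hα x hx => ?_) fun α hα h => aut_ext fun x hx => ?_
  · have key : ∀ y ∈ T, y * autFun α x = autFun α x * y := fun y hy => by
      rw [← hα y (hT hy) hy, ← (homOn_autFun α).map_mul (hT hy) (hQ hx), ← (homOn_autFun α).map_mul (hQ hx) (hT hy),
        Q.comm x (Q.A.sub_le _ _ hx) y hy]
    have h1 := autFun_mem α (hQ hx)
    have h2 := Q.symm.cen_Z (i := 0) (Q.P_le i h1) (key _ (Q.B.a_mem _)) (key _ (Q.B.b_mem _))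
    obtain ⟨a, ha, y, hy, e⟩ := Q.cen_mem_P.1 h1
    rw [e] at h2 ⊢
    exact mul_mem ha (Q.cen_zsub i (Q.cen_I ((mul_mem_cancel_left (Q.A.sub_le _ _ ha)).1 h2) hy))
  · rw [autFun_one hx]
    exact HomOn.eq_on_sup (homOn_autFun α) (homOn_id _) h (fun y hy => hα y (hT hy) hy) x hx

theorem cen_card_ind (i : ZMod (2 ^ n)) : Nat.card (autInducedBy (Q.A.sub (2 ^ (n - 3)) i) (Q.P i)) = 2 ^ 3 := by
  have := Q.finite
  have := finite_of_le (Q.P_le i)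
  have hN := Q.A.normalizer_sub_q Q.three i
  have h := card_normalizerIn (Q.A.sub (2 ^ (n - 3)) i) (Q.P i)
  have h1 : normalizerIn (Q.A.sub (2 ^ (n - 3)) i) (Q.P i) = Q.A.sub (2 ^ (n - 3)) i :=
    le_antisymm (normalizerIn_le _ _) fun a ha => mem_normalizerIn.2 ⟨ha, mem_normalizer_of_finite fun x hx => by
      obtain ⟨x, h2, y, hy, rfl⟩ := Q.cen_mem_P.1 hx
      refine Q.cen_mem_P.2 ⟨_, conj_mem_of_mem_normalizer (hN.ge ha).2 h2, y, hy, ?_⟩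
      rw [mul_assoc a, mul_assoc x, ← Q.comm _ (inv_mem (Q.A.sub_le _ _ ha)) y hy]; group⟩
  have h2 : centralizerIn (Q.A.sub (2 ^ (n - 3)) i) (Q.P i) = zpowers Q.z :=
    le_antisymm (fun a ha => (Q.A.centralizer_sub_q i).le
      ⟨fun r hr => (mem_centralizerIn'.1 ha).2 r (mem_sup_left hr), Q.A.sub_le _ _ ha.1⟩)
      (zpowers_le.2 (mem_centralizerIn'.2 ⟨hN.le ⟨Q.A.a_mem _, le_normalizer (Q.cen_zsub i (mem_zpowers _))⟩,
        fun y hy => Q.z_comm (Q.P_le i hy)⟩))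
  rw [h1, h2, Q.A.card_sub_eighth Q.three, Nat.card_zpowers, z, Q.A.orderOf_z] at h
  omega

/-- `Th` at the index `i` -/
def cenTh (F : FusionSystem S) (i : ZMod (2 ^ n)) : Prop :=
  ∃ θ ∈ F.autGroup (Q.P i), Odd (orderOf θ) ∧ θ ≠ 1 ∧ θ ∈ fixAut (Q.P i) T

theorem cen_th_succ (h : Q.cenTh F i) : Q.cenTh F (i + 1) := by
  have := Q.finite
  obtain ⟨θ, h1, h2, h3, h4⟩ := h
  have hm := mor_conj F (Q.P_le i) Q.d_mem
  have eT := hm.img_eq_self le_sup_right fun x hx => Q.symm.conj_d_mem hx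
  have e : img (fun x => Q.d * x * Q.d⁻¹) (Q.P i) = Q.P (i + 1) := by
    rw [P, hm.homOn.img_sup, eT]
    refine congrArg (· ⊔ T) (le_antisymm (img_le_iff.2 fun x hx => ?_) (Q.A.sub_le_iff.2 ⟨?_, ?_⟩))
    · obtain ⟨r, rfl | rfl⟩ := (Q.A.mem_sub cen_hk _ _).1 hx
      · exact (Q.A.mem_sub cen_hk _ _).2 ⟨r, .inl (Q.d_a _)⟩
      · exact (Q.A.mem_sub cen_hk _ _).2 ⟨r, .inr (by rw [Q.d_b, add_right_comm])⟩
    · exact Q.d_a _ ▸ mem_img_of_mem (fun x => Q.d * x * Q.d⁻¹) (Q.A.a_mem_sub_self _ _)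
    · exact Q.d_b _ ▸ mem_img_of_mem (fun x => Q.d * x * Q.d⁻¹) (Q.A.b_mem_sub_self _ _)
  refine ⟨_, congr_mem_autGroup hm e h1, by rwa [MulEquiv.orderOf_eq], (MulEquiv.map_ne_one_iff _).2 h3,
    fun y _ hy => ?_⟩
  obtain ⟨x, hx, rfl⟩ := (hm.mem_img' le_sup_right).1 (eT.ge hy)
  rw [autFun_congr hm e θ (mem_sup_right hx), h4 x (mem_sup_right hx) hx]

theorem cen_th_all (h : Q.cenTh F i) (j : ZMod (2 ^ n)) : Q.cenTh F j := by
  obtain ⟨k, hk⟩ := zm_natCast_surj (j - i)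
  obtain rfl : j = i + k := by linear_combination hk
  clear hk
  induction k with
  | zero => simpa using h
  | succ k ih => rw [Nat.cast_succ, ← add_assoc]; exact Q.cen_th_succ ih

theorem fix_le (h : Q.Th F) (i : ZMod (2 ^ n)) : fixAut (Q.P i) T ≤ F.autGroup (Q.P i) := by
  have := Q.finite
  have := finite_mulAut (Q.P_le i)
  obtain ⟨θ, hθ, ho, h1, h2⟩ := Q.cen_th_all (i := 0) h i
  refine inf_eq_left.1 (eq_of_not_isPGroup_two inf_le_left (Q.cen_card_fix i) ?_ fun hp => h1 ?_)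
  · rw [← Q.cen_card_ind i]
    refine card_dvd_of_le (le_inf (fun α hα x hx hT => ?_) ((autInducedBy_mono ((Q.A.sub_le _ _).trans Q.R_le) _).trans
      (autInducedBy_le_autGroup F (Q.P_le i))))
    obtain ⟨s, hs, e⟩ := mem_autInducedBy.1 hα
    rw [e x hx, Q.comm s (Q.A.sub_le _ _ hs) x hT, mul_inv_cancel_right]
  · exact congrArg Subtype.val (eq_one_of_pow_odd hp (b := ⟨θ, h2, hθ⟩) ho (Subtype.ext (pow_orderOf_eq_one θ)))

variable {Q} {C : FusionSystem S}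

theorem Cen.cen_odd (h : Q.Cen C) {γ : MulAut (Q.P i)} (hγ : γ ∈ C.autGroup (Q.P i)) (ho : Odd (orderOf γ)) :
    γ ∈ fixAut (Q.P i) T := fun x _ hx => by
  have := Q.B.finite
  have hT : T ≤ Q.P i := le_sup_right
  have h1 : γ ∈ stabAut (Q.P i) T := mem_stabAut_of_finite hT fun y hy =>
    (stronglyClosed_iff.1 h.scT).2 _ _ (mor_autFun (Q.P_le i) hγ) y (hT hy) hy
  have h2 := eq_one_of_pow_odd (Q.B.isPGroup_mulAut (Or.inr Q.three)) (b := resAut hT ⟨γ, h1⟩) ho (by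
    rw [← map_pow, show (⟨γ, h1⟩ : stabAut (Q.P i) T) ^ orderOf γ = 1 from Subtype.ext (pow_orderOf_eq_one γ), map_one])
  have h3 := autFun_resAut hT ⟨γ, h1⟩ hx
  rw [h2, autFun_one hx] at h3
  exact h3.symm

theorem Cen.cen_aut_le (h : Q.Cen C) (h1 : Q.Th F) (hE : C.IsFullyNormalized (Q.P i)) :
    C.autGroup (Q.P i) ≤ F.autGroup (Q.P i) := by
  have := Q.finite
  have := finite_autGroup C (Q.P i)
  exact (sylIn_of_fullyNormalized Q.isPGroup h.sat hE).induction (· ∈ F.autGroup _)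
    (fun _ hx => autInducedBy_le_autGroup F (Q.P_le i) hx)
    fun γ h2 hγ δ _ hδ => mul_mem (Q.fix_le h1 i (h.cen_odd h2 (Nat.coprime_two_right.1 hγ))) hδ

theorem Cen.le (h : Q.Cen C) (h1 : Q.Th F) (h2 : Q.symm.Th F) : C ≤ F := by
  have := Q.finite
  refine le_of_essential Q.isPGroup h.sat h.top fun E hE => ?_
  obtain ⟨i, rfl | rfl⟩ := h.ess E hE
  exacts [h.cen_aut_le h1 hE.2.1, h.symm.cen_aut_le h2 hE.2.1]

theorem Cen.cen_step (h : Q.Cen C) {A : Subgroup Ω} {a : Ω → Ω} (ha : Mor C A a) (hR : R ≤ A) {y : Ω} (hy : y ∈ A) :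
    a y ∈ cen S (Q.A.a 1) ↔ y ∈ cen S (Q.A.a 1) := by
  have h0 := hR (Q.A.a_mem 1)
  have ho : orderOf (a (Q.A.a 1)) = 2 ^ n := by rw [ha.orderOf_eq h0, Q.A.orderOf_a_one]
  have h3 := Q.three
  have key : ∀ m, a (Q.A.a 1) ^ 2 ^ m = 1 → n ≤ m := fun m e =>
    (Nat.pow_dvd_pow_iff_le_right one_lt_two).1 (ho ▸ orderOf_dvd_of_pow_eq_one e)
  obtain ⟨k, e | e⟩ := (Q.A.mem _).1 ((stronglyClosed_iff.1 h.scR).2 _ _ ha _ h0 (Q.A.a_mem 1))
  swap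
  · exact absurd (key 2 (e ▸ Q.A.b_pow_four k)) (by omega)
  obtain ⟨r, rfl | rfl⟩ := zm_even_or_odd k
  · refine absurd (key (n - 1) ?_) (by omega)
    rw [e, Q.A.a_pow, Q.A.a_eq_one_iff, Nat.cast_pow, Nat.cast_ofNat, ← two_mul_zq Q.A.two_le]
    linear_combination r * Q.A.h4
  obtain ⟨w, hw⟩ := zm_odd_unit r
  have e1 : zpowers (Q.A.a 1) = zpowers (a (Q.A.a 1)) := e ▸ le_antisymm
    (zpowers_le.2 (Q.A.a_mem_zpowers_a.2 ⟨w, hw.symm⟩)) (zpowers_le.2 (Q.A.a_mem_zpowers_a.2 ⟨_, (one_mul _).symm⟩))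
  have e2 : cen S (Q.A.a 1) = cen S (a (Q.A.a 1)) := congrArg (centralizerIn S) e1
  nth_rewrite 1 [e2]
  rw [mem_cen, mem_cen, ← ha.homOn.map_mul hy h0, ← ha.homOn.map_mul h0 hy,
    ha.injOn.eq_iff (mul_mem hy h0) (mul_mem h0 hy)]
  exact and_congr_left' (iff_of_true (ha.mem hy) (ha.le hy))

theorem Cen.th_or (h : Q.Cen C) (hCF : C ≤ F) :
    Q.Th F ∨ ∀ P f, Mor C P f → ∀ x ∈ P, (f x ∈ cen S (Q.A.a 1) ↔ x ∈ cen S (Q.A.a 1)) := by
  have := Q.finite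
  by_cases h0 : ∃ i, C.IsEssential 2 (Q.P i)
  · obtain ⟨i, hi⟩ := h0
    obtain ⟨θ, h1, h2, h3⟩ := OnAut.exists_odd (IsEssential.not_isPGroup hi)
    exact .inl (Q.cen_th_all (i := i) ⟨θ, autGroup_mono (isSubsystemOf_iff.2 (le_iff_mor.1 hCF)) _ h1, h2, h3,
      h.cen_odd h1 h2⟩ 0)
  refine .inr fun P f hf => alperin_induction Q.isPGroup h.sat
    (fun f => ∀ x ∈ P, (f x ∈ cen S (Q.A.a 1) ↔ x ∈ cen S (Q.A.a 1))) (fun f e x hx => by rw [e x hx])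
    (fun f g a A _ ih hA ha _ hfA e x hx => ?_) hf
  rw [e x hx, h.cen_step ha ?_ (hfA x hx), ih x hx]
  rcases hA with rfl | hA
  · exact Q.R_le
  · obtain ⟨i, rfl | rfl⟩ := h.ess A hA
    exacts [(h0 ⟨i, hA⟩).elim, le_sup_right]

end QQ

end CL.WQ
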