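/-
Essential subgroups over `(Q ∘ Q').2` when the first factor is strongly closed.
-/
import Cfsg.Agent.WQ.Defs

set_option autoImplicit false

open Cfsg Cfsg.FusionSystem Subgroup CL.Inv CL.Grp CL.Fus
open scoped Pointwise

namespace CL.WQ

variable {Ω : Type*} [Group Ω] {S R T E X : Subgroup Ω} {C : FusionSystem S} {n : ℕ} {i j : ZMod (2 ^ n)} {g x y : Ω}
  {f : Ω → Ω}

theorem ess_res [Finite X] (hX : X ≤ E) (h : IsPGroup 2 (MulAut X)) {γ : MulAut E} (hγ : ∀ x ∈ X, autFun γ x ∈ X) :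
    ∃ k, ∀ x ∈ X, autFun (γ ^ 2 ^ k) x = x := by
  obtain ⟨k, hk⟩ := h (resAut hX ⟨γ, mem_stabAut_of_finite hX hγ⟩)
  exact ⟨k, fun x hx => by
    rw [autFun_pow_eq hX (fun x hx => (autFun_resAut hX ⟨γ, mem_stabAut_of_finite hX hγ⟩ hx).symm) _ x hx, hk, autFun_one hx]⟩

theorem ess_fix [Finite X] (hX : X ≤ E) (h : IsPGroup 2 (MulAut X)) {γ : MulAut E} (hγ : ∀ x ∈ X, autFun γ x ∈ X)
    (ho : (orderOf γ).Coprime 2) (hx : x ∈ X) : autFun γ x = x := by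
  obtain ⟨k, hk⟩ := ess_res hX h hγ
  obtain ⟨m, hm⟩ := exists_pow_eq_self_of_coprime (ho.symm.pow_left k)
  rw [← hm]
  exact autFun_pow_of_fix (hX hx) (hk x hx) m

namespace QQ

variable (Q : QQ S R T n)
include Q

theorem ess_N (hg : g ∈ S) (h : g * Q.A.b i * g⁻¹ ∈ Q.A.sub (zq n) i) : ∃ x ∈ R, ∃ y ∈ T, g = x * y := by
  obtain ⟨x, hx, y, hy, rfl | rfl⟩ := (Q.mem g).1 hg
  · exact ⟨x, hx, y, hy, rfl⟩
  rw [show x * y * Q.d * Q.A.b i * (x * y * Q.d)⁻¹ = x * (y * (Q.d * Q.A.b i * Q.d⁻¹)) * y⁻¹ * x⁻¹ by group, Q.d_b,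
    ← Q.comm _ (Q.A.b_mem _) y hy, ← mul_assoc, mul_inv_cancel_right] at h
  have hz := zq_even Q.three
  obtain ⟨k, rfl | rfl⟩ := (Q.A.mem x).1 hx
  · rw [Q.A.conj_a_b, Q.A.b_mem_sub ⟨2, by ring⟩] at h
    obtain ⟨r, hr⟩ := h
    exact (zm_even_ne_odd (by have := Q.three; omega) (2 ^ (n - 3) * r) k (by rw [hz] at hr; linear_combination -hr)).elim
  · rw [Q.A.conj_b_b, Q.A.b_mem_sub ⟨2, by ring⟩] at h
    obtain ⟨r, hr⟩ := h
    exact (zm_even_ne_odd (by have := Q.three; omega) (k - i - 2 ^ (n - 3) * r) 0 (by rw [hz] at hr; linear_combination hr)).elim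

theorem ess_Z (hg : g ∈ S) (h1 : g * Q.A.a (zq n) = Q.A.a (zq n) * g) (h2 : g * Q.A.b i = Q.A.b i * g) : g ∈ T := by
  obtain ⟨x, hx, y, hy, rfl⟩ := Q.ess_N hg (i := i) (by rw [h2, mul_inv_cancel_right]; exact Q.A.b_mem_sub_self _ _)
  have k : ∀ u ∈ R, x * y * u = u * (x * y) → x ∈ centralizer {u} := fun u hu e => mem_centralizer_singleton_iff.2 (by
    rwa [mul_assoc, ← Q.comm u hu y hy, ← mul_assoc, ← mul_assoc, mul_left_inj] at e)
  have : x ∈ zpowers (Q.A.a (2 * zq n)) := Q.A.centralizer_sub_q i ▸ ⟨fun u hu => (mem_centralizer_singleton_iff.1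
    ((Q.A.sub_le_iff (X := centralizer {x})).2 ⟨mem_centralizer_singleton_iff.2 (mem_centralizer_singleton_iff.1
      (k _ (Q.A.a_mem _) h1)).symm, mem_centralizer_singleton_iff.2 (mem_centralizer_singleton_iff.1
      (k _ (Q.A.b_mem _) h2)).symm⟩ hu)), hx⟩
  exact T.mul_mem (zpowers_le.2 (Q.z_eq ▸ Q.B.a_mem _) this) hy

theorem ess_X (hc : C.IsCentric E) (hr : C.IsRadical 2 E)
    (hinv : ∀ f, Mor C E f → img f E = E → ∀ x ∈ E, x ∈ R → f x ∈ R) : R ≤ E ∨ ∃ i, E ⊓ R = Q.A.sub (zq n) i := by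
  have := Q.finite
  have := finite_of_le ((inf_le_left : E ⊓ R ≤ E).trans hc.1)
  by_cases h : IsPGroup 2 (MulAut ↥(E ⊓ R))
  · refine .inl (le_of_inf_normalizer_le_of_normalizes Q.isPGroup hc.1 Q.R_le (fun g hg => ?_) fun a ha hn => ?_)
    · have := Q.A.finite
      exact mem_normalizer_fintype fun x hx => Q.conj_mem (hc.1 hg) hx
    · refine mem_of_chain' Q.isPGroup hc hr 1 (fun i => if i = 0 then R else ⊤) (fun i f hf e x hx k => ?_) (by simp)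
        (fun γ hγ => ?_) (Q.R_le ha) hn fun i hi x hx _ => ?_
      · by_cases hi : i = 0
        · simp only [hi, if_true] at k ⊢
          exact hinv f hf e x hx k
        · simp [hi]
      · obtain ⟨k, hk⟩ := ess_res inf_le_left h (γ := γ) fun x hx =>
          ⟨autFun_mem γ hx.1, hinv _ (mor_autFun hc.1 hγ) (img_autFun γ) x hx.1 hx.2⟩
        exact ⟨k, fun x hx k => hk x ⟨hx, k⟩⟩
      · obtain rfl : i = 0 := by omega
        simpa [mul_assoc] using R.mul_mem (Q.conj_mem (S.inv_mem (hc.1 hx)) ha) (R.inv_mem ha)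
  · obtain ⟨i, ⟨-, e⟩ | ⟨e, -⟩⟩ := Q.A.aut_cases inf_le_right h
    · exact (Q.A.h2 (by simpa using e)).elim
    · exact .inr ⟨i, e⟩

theorem ess_Y (hR : C.StronglyClosed R) (ha : Q.A.a (zq n) ∈ E) (hb : Q.A.b i ∈ E) (hf : Mor C E f) (e : img f E = E)
    (hy : y ∈ E) (hT : y ∈ T) : f y ∈ T := by
  have := Q.finite
  have e1 := hf.img_eq_self (inf_le_left : E ⊓ R ≤ E) fun x hx =>
    ⟨e ▸ mem_img_of_mem f hx.1, (stronglyClosed_iff.1 hR).2 E f hf x hx.1 hx.2⟩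
  have k : ∀ u ∈ E ⊓ R, f y * u = u * f y := fun u hu => by
    obtain ⟨w, hw, rfl⟩ := (hf.homOn.mono inf_le_left).mem_img.1 (e1.ge hu)
    rw [← hf.homOn.map_mul hy hw.1, ← Q.comm w hw.2 y hT, hf.homOn.map_mul hw.1 hy]
  exact Q.ess_Z (hf.mem hy) (k _ ⟨ha, Q.A.a_mem _⟩) (k _ ⟨hb, Q.A.b_mem _⟩)

theorem ess_O (hR : C.StronglyClosed R) (h1 : R ≤ E) (h2 : T ≤ E) (hE : E ≤ S) : IsPGroup 2 (C.autGroup E) := by
  have := Q.finite
  have := Q.A.finite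
  have := Q.B.finite
  have := finite_autGroup C E
  refine isPGroup_of_coprime_eq_one fun γ hγ ho => ?_
  have hm := mor_autFun hE hγ
  have f1 : ∀ x ∈ R, autFun γ x = x := fun x => ess_fix h1 (Q.A.isPGroup_mulAut (.inr Q.three))
    (fun x hx => (stronglyClosed_iff.1 hR).2 E _ hm x (h1 hx) hx) ho
  have f2 : ∀ x ∈ T, autFun γ x = x := fun x => ess_fix h2 (Q.B.isPGroup_mulAut (.inr Q.three))
    (fun x hx => Q.ess_Y hR (h1 (Q.A.a_mem _)) (h1 (Q.A.b_mem 0)) hm (img_autFun γ) (h2 hx) hx) ho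
  refine aut_eq_one_of_fix_index_le_two (Q.isPGroup.to_le hE) (Nat.coprime_two_right.1 ho) ((R ⊔ T).subgroupOf E)
    (fun g h hg hh => ?_) fun b hb => Subtype.ext ((autFun_coe γ b).symm.trans
      (fix_sup (homOn_autFun γ) h1 h2 f1 f2 b hb))
  have k : ∀ g : E, g ∉ (R ⊔ T).subgroupOf E → ∃ u ∈ R ⊔ T, (g : Ω) = u * Q.d := fun g hg => by
    obtain ⟨x, hx, y, hy, e | e⟩ := (Q.mem g).1 (hE g.2)
    · exact (hg (mem_subgroupOf.2 (e ▸ mul_mem (mem_sup_left hx) (mem_sup_right hy)))).elim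
    · exact ⟨_, mul_mem (mem_sup_left hx) (mem_sup_right hy), e⟩
  obtain ⟨u, hu, e1⟩ := k g hg
  obtain ⟨v, hv, e2⟩ := k h hh
  have : R ⊔ T ≤ (R ⊔ T).comap (MulAut.conj Q.d⁻¹).toMonoidHom := sup_le
    (fun x hx => mem_sup_left (Q.conj_mem (S.inv_mem Q.d_mem) hx))
    fun x hx => mem_sup_right (Q.symm.conj_mem (S.inv_mem Q.d_mem) hx)
  rw [mem_subgroupOf, coe_mul, coe_inv, e1, e2]
  simpa [mul_assoc] using this (mul_mem (Subgroup.inv_mem _ hu) hv)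

theorem ess_mul (hE : E ≤ S) (e : E ⊓ R = Q.A.sub (zq n) i) (hg : g ∈ E) : ∃ x ∈ R, ∃ y ∈ T, g = x * y := by
  have hb := e.ge (Q.A.b_mem_sub_self _ i)
  exact Q.ess_N (hE hg) (e.le ⟨E.mul_mem (E.mul_mem hg hb.1) (E.inv_mem hg), Q.conj_mem (hE hg) hb.2⟩)

theorem ess_P (hE : E ≤ S) (hT : T ≤ E) (e : E ⊓ R = Q.A.sub (zq n) i) : E = Q.P i := by
  refine le_antisymm (fun g hg => ?_) (sup_le (e.ge.trans inf_le_left) hT)
  obtain ⟨x, hx, y, hy, rfl⟩ := Q.ess_mul hE e hg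
  exact mul_mem (mem_sup_left (e.le ⟨(mul_mem_cancel_right (hT hy)).1 hg, hx⟩)) (mem_sup_right hy)

theorem ess_x0 (hE : E ≤ S) (e : E ⊓ R = Q.A.sub (zq n) i) : ∃ x ∈ R, x ∉ E ∧ x ∈ normalizer (E : Set Ω) := by
  have := Q.finite
  have := finite_of_le hE
  have hz := zq_even Q.three
  refine ⟨Q.A.a (2 ^ (n - 3)), Q.A.a_mem _, fun k => ?_, mem_normalizer_fintype fun g hg => ?_⟩
  · obtain ⟨r, hr⟩ := (Q.A.a_mem_sub ⟨2, by ring⟩ i _).1 (e.le ⟨k, Q.A.a_mem _⟩)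
    exact Q.A.h2 (by linear_combination 2 * hz + 4 * hr + r * Q.A.h4)
  · obtain ⟨x, hx, y, hy, rfl⟩ := Q.ess_mul hE e hg
    have h1 : Q.A.a (2 ^ (n - 3)) * (x * (Q.A.a (2 ^ (n - 3)))⁻¹ * x⁻¹) ∈ E := by
      rw [Q.A.a_inv]
      obtain ⟨k, rfl | rfl⟩ := (Q.A.mem x).1 hx
      · rw [Q.A.conj_a_a, Q.A.a_mul_a, add_neg_cancel, Q.A.a_zero]
        exact E.one_mem
      · rw [Q.A.conj_b_a, Q.A.a_mul_a, show (2 : ZMod (2 ^ n)) ^ (n - 3) + (0 - 1) * -2 ^ (n - 3) = zq n by rw [hz]; ring]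
        exact (e.ge (Q.A.a_mem_sub_self _ i)).1
    have h2 := E.mul_mem h1 hg
    rwa [show ∀ a : Ω, a * (x * a⁻¹ * x⁻¹) * (x * y) = a * x * (a⁻¹ * y) from fun a => by group,
      Q.comm _ (R.inv_mem (Q.A.a_mem _)) y hy, ← mul_assoc, mul_assoc _ x] at h2

theorem ess_false (hC : C.IsSaturated 2) (hE : C.IsEssential 2 E)
    (hT : ∀ f, Mor C E f → img f E = E → ∀ x ∈ E, x ∈ T → f x ∈ T)
    (hR : ∀ f, Mor C E f → img f E = E → ∀ x ∈ E, x ∈ R → f x ∈ R)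
    (e : E ⊓ R = Q.A.sub (zq n) i) (e' : E ⊓ T = Q.B.sub (zq n) j) : False := by
  have := Q.finite
  have hS := Q.isPGroup
  obtain ⟨x, hx, xE, xn⟩ := Q.ess_x0 hE.1.1 e
  obtain ⟨y, hy, yE, yn⟩ := Q.symm.ess_x0 hE.1.1 e'
  obtain ⟨γ, hγ, hn⟩ := IsEssential.exists_notMem_extAut hS hC hE
  have pw : ∀ a ∈ S, ∀ h : a ∈ normalizer (E : Set Ω), ∃ k, conjAut E h ^ 2 ^ k = 1 := fun a ha h => by
    obtain ⟨k, hk⟩ := hS ⟨a, ha⟩
    refine ⟨k, ?_⟩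
    rw [show conjAut E h = E.normalizerMonoidHom ⟨a, h⟩ from rfl, ← map_pow,
      show (⟨a, h⟩ : normalizer (E : Set Ω)) ^ 2 ^ k = 1 from
        Subtype.ext (show a ^ 2 ^ k = 1 from congrArg Subtype.val hk), map_one]
  obtain ⟨k, hk⟩ := pw x (Q.R_le hx) xn
  obtain ⟨l, hl⟩ := pw y (Q.T_le hy) yn
  have m := mor_autFun hE.1.1 hγ
  have m' := mor_autFun hE.1.1 (Subgroup.inv_mem _ hγ)
  refine hn (IsEssential.mem_extAut_of_closure hS hC hE (IsEssential.conjAut_mem_extAut hS hC hE (Q.R_le hx) xn)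
    (IsEssential.conjAut_notMem_Inn hE (Q.R_le hx) xn xE) (IsEssential.conjAut_mem_extAut hS hC hE (Q.T_le hy) yn)
    (IsEssential.conjAut_notMem_Inn hE (Q.T_le hy) yn yE) ⟨l, hl⟩ hγ ?_)
  have s1 : ∀ u ∈ E, u ∈ R → autFun (γ * conjAut E yn * γ⁻¹) u = u := fun u hu k => by
    have h1 := autFun_mem γ⁻¹ hu
    rw [autFun_mul _ _ hu, autFun_mul _ _ h1, autFun_conjAut _ h1, ← Q.comm _ (hR _ m' (img_autFun _) u hu k) y hy,
      mul_inv_cancel_right, autFun_apply_inv γ hu]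
  have s2 : ∀ u ∈ E, u⁻¹ * autFun (γ * conjAut E yn * γ⁻¹) u ∈ T := fun u hu => by
    have h1 := autFun_mem γ⁻¹ hu
    have h2 := conj_mem_of_mem_normalizer yn h1
    have h3 := hT _ m (img_autFun _) _ (E.mul_mem (E.inv_mem h1) h2) (by
      simpa [mul_assoc] using T.mul_mem (Q.symm.conj_mem (S.inv_mem (hE.1.1 h1)) hy) (T.inv_mem hy))
    rwa [m.homOn.map_mul (E.inv_mem h1) h2, m.homOn.map_inv h1, autFun_apply_inv γ hu, ← autFun_conjAut yn h1,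
      ← autFun_mul _ _ h1, ← autFun_mul _ _ hu] at h3
  have pw' : (γ * conjAut E yn * γ⁻¹) ^ 2 ^ l = 1 := by rw [conj_pow, hl, mul_one, mul_inv_cancel]
  generalize γ * conjAut E yn * γ⁻¹ = s at s1 s2 pw'
  have c : Commute (conjAut E xn) s := aut_ext fun u hu => by
    have h1 := autFun_mem s hu
    have h2 := conj_mem_of_mem_normalizer xn hu
    have h3 : u⁻¹ * (x * u * x⁻¹) ∈ R := by
      simpa [mul_assoc] using R.mul_mem (Q.conj_mem (S.inv_mem (hE.1.1 hu)) hx) (R.inv_mem hx)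
    rw [autFun_mul _ _ hu, autFun_mul _ _ hu, autFun_conjAut _ h1, autFun_conjAut _ hu, ← mul_inv_cancel_left u (x * u * x⁻¹),
      (homOn_autFun s).map_mul hu (E.mul_mem (E.inv_mem hu) h2), s1 _ (E.mul_mem (E.inv_mem hu) h2) h3,
      ← mul_inv_cancel_left u (autFun s u), mul_assoc u, ← Q.comm _ h3 _ (s2 u hu), mul_assoc, mul_assoc,
      ← Q.comm _ (R.inv_mem hx) _ (s2 u hu)]
    group
  exact ((isPGroup_zpowers_of_pow_eq_one hk).to_sup_of_normal_right' (isPGroup_zpowers_of_pow_eq_one pw')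
    (zpowers_le.2 (centralizer_le_normalizer _ fun _ ⟨i, hi⟩ => hi ▸ (c.zpow_right i).symm.eq))).to_le
    ((closure_le _).2 (Set.pair_subset (mem_sup_left (mem_zpowers _)) (mem_sup_right (mem_zpowers _))))

theorem cen_of (hC : C.IsSaturated 2) (hR : C.StronglyClosed R) : Q.Cen C := by
  have := Q.finite
  have hS := Q.isPGroup
  have iR : ∀ E f, Mor C E f → img f E = E → ∀ x ∈ E, x ∈ R → f x ∈ R := fun E f hf _ => (stronglyClosed_iff.1 hR).2 E f hf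
  have iT : ∀ E, E = S ∨ C.IsEssential 2 E → ∀ f, Mor C E f → img f E = E → ∀ x ∈ E, x ∈ T → f x ∈ T := fun E hE f hf e x => by
    obtain h | ⟨i, h⟩ : R ≤ E ∨ ∃ i, E ⊓ R = Q.A.sub (zq n) i := hE.elim (fun h => .inl (h ▸ Q.R_le)) fun h =>
      Q.ess_X h.1 (IsEssential.isRadical hS h) (iR E)
    · exact Q.ess_Y hR (h (Q.A.a_mem _)) (h (Q.A.b_mem 0)) hf e
    · exact Q.ess_Y hR (h.ge (Q.A.a_mem_sub_self _ i)).1 (h.ge (Q.A.b_mem_sub_self _ i)).1 hf e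
  refine ⟨hC, hR, stronglyClosed_iff.2 ⟨Q.T_le, fun P f hf => alperin_induction hS hC (fun f => ∀ x ∈ P, x ∈ T → f x ∈ T)
    (fun f h x hx k => (h x hx).symm ▸ k) (fun f g a A _ h hA ha e h1 h2 x hx k => (h2 x hx).symm ▸
      iT A hA a ha e _ (h1 x hx) (h x hx k)) hf⟩, Q.ess_O hR Q.R_le Q.T_le le_rfl, fun E hE => ?_⟩
  have hr := IsEssential.isRadical hS hE
  obtain h | ⟨i, h⟩ := Q.ess_X hE.1 hr (iR E) <;> obtain h' | ⟨j, h'⟩ := Q.symm.ess_X hE.1 hr (iT E (.inr hE))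
  · exact (IsEssential.not_isPGroup hE (Q.ess_O hR h h' hE.1.1)).elim
  · exact ⟨j, .inr (Q.symm.ess_P hE.1.1 h h')⟩
  · exact ⟨i, .inl (Q.ess_P hE.1.1 h' h)⟩
  · exact (Q.ess_false hC hE (iT E (.inr hE)) (iR E) h h').elim

end QQ

end CL.WQ
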