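/-
Weakly closed quaternion subgroups (S5176): from the scalars `±1` to wreathed or `G₂` coordinates.
-/
import Cfsg.Agent.WQ.Defs

set_option autoImplicit false

open Cfsg Cfsg.FusionSystem Subgroup CL.Inv CL.Grp CL.Fus
open scoped Pointwise

namespace CL.WQ

variable {Ω : Type*} [Group Ω] {S R : Subgroup Ω} {F : FusionSystem S} {n : ℕ} {D : MC R n 0 (2 * zq n)}

/-- `g` acts on `U` as the scalar `l`. -/
def finSc (W : WA F D) (g : Ω) (l : ZMod (2 ^ n)) : Prop := ∀ i j, g * W.W.u i j * g⁻¹ = W.W.u (l * i) (l * j)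

theorem finSc.mul {W : WA F D} {g g' : Ω} {l l' : ZMod (2 ^ n)} (h : finSc W g l) (h' : finSc W g' l') :
    finSc W (g * g') (l * l') := fun i j => by
  rw [mul_assoc l, mul_assoc l, ← h, ← h']; group

theorem finSc.mem {W : WA F D} {g : Ω} (hg : g ∈ S) (h : finSc W g 1) : ∃ i j, g = W.W.u i j :=
  W.W.mem_U.1 (W.cent g hg (by simpa [finSc] using h))

theorem finSc.conj {W : WA F D} {g : Ω} {l : ZMod (2 ^ n)} (h : finSc W g l) :
    finSc W (W.W.v 0 0 * g * (W.W.v 0 0)⁻¹) l := fun i j => by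
  rw [← W.W.conj_v_u (l * j) (l * i) 0 0, ← h, ← W.W.conj_v_u j i 0 0]; group

theorem fin_norm {X : Subgroup Ω} (h : ∀ g ∈ S, ∀ x ∈ X, g * x * g⁻¹ ∈ X) : S ≤ normalizer (X : Set Ω) :=
  fun g hg => mem_normalizer_iff.2 fun x => ⟨h g hg x, fun hx => by
    simpa [mul_assoc] using h g⁻¹ (S.inv_mem hg) _ hx⟩

theorem WA.fin (hH : Hyp F D) (W : WA F D)
    (hs : ∀ g ∈ S, ∀ l, (∀ i j, g * W.W.u i j * g⁻¹ = W.W.u (l * i) (l * j)) → l = 1 ∨ l = -1) :
    Nonempty (WR S n) ∨ ∃ G : GT S n, G.D.Y = R ∧ G.qq.z = D.a (2 * zq n) ∧ G.Std F := by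
  have := hH.fin
  have uS : ∀ i j, W.W.u i j ∈ S := fun i j => W.K_le (W.W.u_mem i j)
  have wS : W.W.v 0 0 ∈ S := W.K_le (W.W.v_mem 0 0)
  have ww : W.W.v 0 0 * W.W.v 0 0 = 1 := by rw [W.W.v_mul_v, add_zero, W.W.u_zero]
  have uw : ∀ i j, W.W.u i j * W.W.v 0 0 = W.W.v i j := fun i j => by rw [W.W.u_mul_v, add_zero, add_zero]
  have cu := fun i j => W.W.conj_v_u i j 0 0
  have cj := @finSc.conj _ _ _ _ _ _ _ W
  generalize W.W.v 0 0 = w at wS ww uw cu cj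
  have uM : ∀ i j, W.W.u i j ∈ cen S (W.W.u (2 * zq n) 0) := fun i j => mem_cen.2 ⟨uS i j, W.W.u_comm_u _ _ _ _⟩
  have m1 : ∀ g ∈ S, ∀ l, finSc W g l → g ∈ cen S (W.W.u (2 * zq n) 0) := fun g hg l h =>
    mem_cen.2 ⟨hg, mul_inv_eq_iff_eq_mul.1 (by
      rw [h, mul_zero]
      rcases hs g hg l h with rfl | rfl
      · rw [one_mul]
      · congr 1; linear_combination -W.W.h4)⟩
  have m2 : ∀ g ∈ cen S (W.W.u (2 * zq n) 0), finSc W g 1 ∨ finSc W g (-1) := fun g hg => by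
    obtain ⟨a, b⟩ := mem_cen.1 hg
    obtain ⟨l, h | h⟩ := W.scal g a
    · rcases hs g a l h with rfl | rfl
      exacts [.inl h, .inr h]
    · have := (h _ _).symm.trans (mul_inv_eq_iff_eq_mul.2 b)
      exact absurd (W.W.u_inj _ _ _ _ this).1.symm (by simpa using W.W.h2)
  have m3 : ∀ g ∈ S, g ∈ cen S (W.W.u (2 * zq n) 0) ∨ g * w ∈ cen S (W.W.u (2 * zq n) 0) := fun g hg => by
    obtain ⟨l, h | h⟩ := W.scal g hg
    · exact .inl (m1 g hg l h)
    · exact .inr (m1 _ (S.mul_mem hg wS) l fun i j => by rw [← h, ← cu i j]; group)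
  have hal := W.al_u
  have hm := W.al_mem
  have ho := W.al_odd
  generalize W.al = al at hal hm ho
  have MS := cen_le S (W.W.u (2 * zq n) 0)
  generalize cen S (W.W.u (2 * zq n) 0) = M at uM m1 m2 m3 al hal hm ho MS
  have gw : ∀ g x, g * w = x → g = x * w := fun g x e => by rw [← e, mul_assoc, ww, mul_one]
  by_cases hA : ∀ g ∈ M, ¬ finSc W g (-1)
  · refine .inl ⟨W.W.copy (le_antisymm W.K_le fun g hg => ?_)⟩
    rcases m3 g hg with a | a
    · obtain ⟨i, j, rfl⟩ := ((m2 _ a).resolve_right (hA _ a)).mem hg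
      exact W.W.u_mem i j
    · obtain ⟨i, j, e⟩ := ((m2 _ a).resolve_right (hA _ a)).mem (MS a)
      rw [gw _ _ e, uw]
      exact W.W.v_mem i j
  right
  push Not at hA
  obtain ⟨h0, a0, b0⟩ := hA
  have : Finite M := Finite.of_injective _ (inclusion_injective MS)
  have hom := homOn_autFun al
  have su : ∀ i j, finSc W (W.W.u i j) 1 := fun i j k l => by rw [W.W.conj_u_u, one_mul, one_mul]
  have nU : S ≤ normalizer (W.W.U : Set Ω) := fin_norm fun g hg x hx => by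
    obtain ⟨i, j, rfl⟩ := W.W.mem_U.1 hx
    obtain ⟨l, h | h⟩ := W.scal g hg <;> exact h i j ▸ W.W.u_mem_U _ _
  have wM : ∀ x ∈ M, w * x * w⁻¹ ∈ M := fun x hx => by
    have := S.mul_mem (S.mul_mem wS (MS hx)) (S.inv_mem wS)
    rcases m2 x hx with a | a <;> exact m1 _ this _ (cj a)
  have nM : S ≤ normalizer (M : Set Ω) := fin_norm fun g hg x hx => by
    rcases m3 g hg with a | a
    · exact M.mul_mem (M.mul_mem a hx) (M.inv_mem a)
    · have := M.mul_mem (M.mul_mem a (wM x hx)) (M.inv_mem a)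
      rwa [show g * w * (w * x * w⁻¹) * (g * w)⁻¹ = g * (w * w) * x * (w * w)⁻¹ * g⁻¹ by group, ww, mul_one, inv_one,
        mul_one] at this
  have a1 : ∀ g ∈ M, ∀ l, finSc W g l → finSc W (autFun al g) l := fun g hg l h i j => by
    have e : ∀ i j, W.W.u i j = autFun al (W.W.u j (-i - j)) := fun i j => by rw [hal]; congr 1; ring
    rw [e i j, ← hom.map_inv hg, ← hom.map_mul hg (uM _ _), ← hom.map_mul (M.mul_mem hg (uM _ _)) (M.inv_mem hg), h,
      hal]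
    congr 1; ring
  have i0 : finSc W h0⁻¹ (-1) := fun i j => by
    rw [inv_inv, mul_assoc, inv_mul_eq_iff_eq_mul, eq_comm, ← mul_inv_eq_iff_eq_mul, b0]
    congr 1 <;> ring
  obtain ⟨h1, a2, a3, a4⟩ := exists_fix_mem_coset (p := 2) (N := W.W.U) (hH.pS.to_le MS) ho.coprime_two_right
    (fun x _ hx => by
      obtain ⟨i, j, rfl⟩ := W.W.mem_U.1 hx
      exact hal i j ▸ W.W.u_mem_U _ _) a0 (W.W.mem_U.2 (finSc.mem
        (S.mul_mem (S.inv_mem (MS a0)) (MS (autFun_mem al a0))) (by simpa using i0.mul (a1 _ a0 _ b0))))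
  have b1 : finSc W h1 (-1) := by
    obtain ⟨i, j, e⟩ := W.W.mem_U.1 a4
    simpa [← e] using b0.mul (su i j)
  have hh : h1 * h1 = 1 := by
    obtain ⟨i, j, e⟩ := finSc.mem (W := W) (MS (M.mul_mem a2 a2)) (by simpa using b1.mul b1)
    have e1 : autFun al (h1 * h1) = h1 * h1 := by rw [hom.map_mul a2 a2, a3]
    rw [e, hal, W.W.u_eq_iff] at e1
    obtain ⟨r, hr⟩ := zm_odd_unit (1 : ZMod (2 ^ n))
    have e2 : i = 0 := by linear_combination (-i) * hr - r * e1.1 + r * e1.2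
    rw [e, ← e1.2, e2, W.W.u_zero]
  have hu : ∀ i j, h1 * W.W.u i j = W.W.u (-i) (-j) * h1 := fun i j =>
    mul_inv_eq_iff_eq_mul.1 (by simpa using b1 i j)
  have c1 : ∀ g ∈ S, finSc W g (-1) → ∃ i j, g = W.W.u i j * h1 := fun g hg h => by
    obtain ⟨i, j, e⟩ := finSc.mem (W := W) (S.mul_mem hg (MS a2)) (by simpa using h.mul b1)
    exact ⟨i, j, by rw [← e, mul_assoc, hh, mul_one]⟩
  obtain ⟨y, y', c2⟩ := c1 _ (MS (wM _ a2)) (cj b1)
  have cw : ∀ i j, w * (W.W.u i j * h1) * w⁻¹ = W.W.u (j + y) (i + y') * h1 := fun i j => by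
    rw [← W.W.u_mul_u, mul_assoc (W.W.u j i), ← c2, ← cu i j]; group
  obtain rfl : y' = -y := by
    have := cw y y'
    rw [← c2, show w * (w * h1 * w⁻¹) * w⁻¹ = w * w * h1 * (w * w)⁻¹ by group, ww, one_mul, inv_one, mul_one,
      eq_comm, mul_eq_right, W.W.u_eq_one_iff] at this
    linear_combination this.1
  have hτ := fun x => autFun_conjAut (P := M) (nM wS) (x := x)
  have τm := conjAut_mem_autGroup F MS (nM wS) wS
  generalize conjAut M (nM wS) = τ at hτ τm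
  have hκ : ∀ x ∈ M, autFun (τ * al * τ * al) x = w * autFun al (w * autFun al x * w⁻¹) * w⁻¹ := fun x hx => by
    have b := autFun_mem al hx
    rw [autFun_mul _ _ hx, autFun_mul _ _ b, hτ _ b, autFun_mul _ _ (wM _ b), hτ _ (autFun_mem al (wM _ b))]
  have κu : ∀ i j, autFun (τ * al * τ * al) (W.W.u i j) = W.W.u i j := fun i j => by
    rw [hκ _ (uM i j), hal, cu, hal, cu]; congr 1; ring
  have hZ : fixAut M W.W.U ⊓ F.autGroup M ≤ autInducedBy S M :=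
    (sylIn_of_fullyNormalized hH.pS hH.sat (isFullyNormalized_of_normalizerIn_eq F MS nM)).le_of_normalizes
      ((isPGroup_fixAut (hH.pS.to_le MS) (fun x hx => by obtain ⟨i, j, rfl⟩ := W.W.mem_U.1 hx; exact uM i j)
        fun g hg => by
          obtain ⟨a, b⟩ := mem_centralizerIn'.1 hg
          exact W.cent g (MS a) fun i j => mul_inv_eq_iff_eq_mul.2 (b _ (W.W.u_mem_U i j)).symm).to_le inf_le_left)
      inf_le_right fun β hβ => by
        have b1 := autInducedBy_le_autGroup F MS hβ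
        obtain ⟨a, ha, e⟩ := mem_autInducedBy.1 hβ
        have b2 : β ∈ stabAut M W.W.U := mem_stabAut.2 fun x hx => by
          rw [e x hx]; exact (mem_normalizer_iff.1 (nU ha) x).symm
        exact inf_normalizer_le_normalizer_inf ⟨stabAut_le_normalizer_fixAut _ _ b2, le_normalizer b1⟩
  obtain ⟨m, mS, e⟩ := mem_autInducedBy.1 (hZ ⟨mem_fixAut.2 fun x _ hx => by
    obtain ⟨i, j, rfl⟩ := W.W.mem_U.1 hx
    exact κu i j, mul_mem (mul_mem (mul_mem τm hm) τm) hm⟩)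
  obtain ⟨p, q, rfl⟩ := W.W.mem_U.1 (W.cent m mS fun i j => (e _ (uM i j)).symm.trans (κu i j))
  have cb : ∀ i j, W.W.u i j * h1 * (W.W.u i j)⁻¹ = W.W.u (2 * i) (2 * j) * h1 := fun i j => by
    rw [W.W.u_inv, mul_assoc, hu, ← mul_assoc, W.W.u_mul_u]; congr 2 <;> ring
  obtain rfl : y = -2 * q := by
    have := e _ a2
    rw [hκ _ a2, a3, c2, hom.map_mul (uM _ _) a2, a3, hal, cw, cb, mul_left_inj, W.W.u_eq_iff] at this
    linear_combination -this.2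
  have hb := cb (-q) 0
  have bM := uM (-q) 0
  have bu := fun i j => W.W.conj_u_u i j (-q) 0
  have d1 : W.W.u (-q) 0 * h1 * (W.W.u (-q) 0)⁻¹ * w = w * (W.W.u (-q) 0 * h1 * (W.W.u (-q) 0)⁻¹) := by
    rw [eq_comm, ← mul_inv_eq_iff_eq_mul, hb, cw]; congr 2 <;> ring
  generalize W.W.u (-q) 0 = b at hb bM bu d1
  have bu' : ∀ i j, b⁻¹ * W.W.u i j * b = W.W.u i j := fun i j => by nth_rewrite 1 [← bu i j]; group
  have d2 : ∀ i j, b * h1 * b⁻¹ * W.W.u i j = W.W.u (-i) (-j) * (b * h1 * b⁻¹) := fun i j => by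
    rw [hb, mul_assoc, hu, ← mul_assoc, ← mul_assoc, W.W.u_comm_u]
  have d3 : ∀ g, g ∈ M ↔ ∃ i j, g = W.W.u i j ∨ g = W.W.u i j * (b * h1 * b⁻¹) := fun g => by
    refine ⟨fun hg => ?_, ?_⟩
    · rcases m2 g hg with a | a
      · obtain ⟨i, j, e⟩ := a.mem (MS hg)
        exact ⟨i, j, .inl e⟩
      · obtain ⟨i, j, e⟩ := c1 g (MS hg) a
        exact ⟨i + 2 * q, j, .inr (by rw [e, hb, ← mul_assoc, W.W.u_mul_u]; congr 2 <;> ring)⟩
    · rintro ⟨i, j, rfl | rfl⟩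
      exacts [uM i j, M.mul_mem (uM i j) (M.mul_mem (M.mul_mem bM a2) (M.inv_mem bM))]
  have d4 : b * h1 * b⁻¹ ∈ S := MS (M.mul_mem (M.mul_mem bM a2) (M.inv_mem bM))
  refine ⟨⟨W.K, W.W, b * h1 * b⁻¹, hH.three, by rw [conj_mul, hh, mul_one, mul_inv_cancel], d2, fun i j => by
    rw [← uw, ← uw, ← mul_assoc, d2, mul_assoc, d1, ← mul_assoc], fun g => ⟨fun hg => ?_, ?_⟩⟩, ?_, (W.a_eq _).symm,
    fun x => b * autFun al (b⁻¹ * x * b⁻¹⁻¹) * b⁻¹, ?_, fun i j => ?_, ?_⟩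
  · rcases m3 g hg with a | a
    · obtain ⟨i, j, e | e⟩ := (d3 _).1 a
      exacts [⟨i, j, .inl e⟩, ⟨i, j, .inr (.inr (.inl e))⟩]
    · obtain ⟨i, j, e | e⟩ := (d3 _).1 a
      · exact ⟨i, j, .inr (.inl (by rw [gw _ _ e, uw]))⟩
      · exact ⟨i, j, .inr (.inr (.inr (by rw [gw _ _ e, mul_assoc, d1, ← mul_assoc, uw])))⟩
  · have := fun i j => W.K_le (W.W.v_mem i j)
    rintro ⟨i, j, rfl | rfl | rfl | rfl⟩
    exacts [uS i j, this i j, S.mul_mem (uS i j) d4, S.mul_mem (this i j) d4]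
  · ext x
    rw [D.mem]
    simp only [W.a_eq, W.b_eq]
    rfl
  · have k : ∀ x ∈ M, b⁻¹ * x * b⁻¹⁻¹ ∈ M := fun x hx =>
      M.mul_mem (M.mul_mem (M.inv_mem bM) hx) (M.inv_mem (M.inv_mem bM))
    exact (((mor_conj F MS (S.inv_mem (MS bM))).comp (mor_autFun MS hm) k).comp (mor_conj F MS (MS bM))
      fun x hx => autFun_mem al (k x hx)).mono fun x hx => (d3 x).2 hx
  · change b * autFun al (b⁻¹ * W.W.u i j * b⁻¹⁻¹) * b⁻¹ = W.W.u _ _
    rw [inv_inv, bu', hal, bu]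
  · change b * autFun al (b⁻¹ * (b * h1 * b⁻¹) * b⁻¹⁻¹) * b⁻¹ = b * h1 * b⁻¹
    rw [show b⁻¹ * (b * h1 * b⁻¹) * b⁻¹⁻¹ = h1 by group, a3]

end CL.WQ
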