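/-
Weakly closed quaternion subgroups in simple 2-fusion systems (S5176): transport along coordinates of type `G₂`.
-/
import Cfsg.Agent.WQ.Defs

set_option autoImplicit false

open Cfsg Cfsg.FusionSystem Subgroup CL.Inv CL.Grp CL.Fus
open scoped Pointwise

namespace CL.WQ

variable {Ω Ω' : Type*} [Group Ω] [Group Ω'] {S R T : Subgroup Ω} {S' R' T' : Subgroup Ω'} {F : FusionSystem S}
  {E : FusionSystem S'} {n : ℕ} {θ : Ω → Ω'} {η : Ω' → Ω}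

theorem iso_img_mc {d : ZMod (2 ^ n)} (h : GIso S S' θ η) (hR : R ≤ S) (A : MC R n 0 d) (A' : MC R' n 0 d)
    (ha : ∀ i, θ (A.a i) = A'.a i) (hb : ∀ i, θ (A.b i) = A'.b i) :
    img θ R = R' ∧ ∀ k i, img θ (A.sub k i) = A'.sub k i := by
  refine ⟨Subgroup.ext fun y => ?_, fun k i => ?_⟩
  · simp only [h.mem_img hR, A.mem, A'.mem]
    exact ⟨by rintro ⟨_, ⟨i, rfl | rfl⟩, rfl⟩; exacts [⟨i, .inl (ha i)⟩, ⟨i, .inr (hb i)⟩], by
      rintro ⟨i, rfl | rfl⟩; exacts [⟨_, ⟨i, .inl rfl⟩, ha i⟩, ⟨_, ⟨i, .inr rfl⟩, hb i⟩]⟩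
  · rw [MC.sub, h.img_sup (zpowers_le.2 (hR (A.a_mem k))) (zpowers_le.2 (hR (A.b_mem i))),
      h.homOn.img_zpowers (hR (A.a_mem k)), h.homOn.img_zpowers (hR (A.b_mem i)), ha, hb, MC.sub]

theorem QQ.iso_th (Q : QQ S R T n) (Q' : QQ S' R' T' n) (hI : FIso F E θ η)
    (h1 : img θ (Q.A.sub (zq n) 0) = Q'.A.sub (zq n) 0) (h2 : img θ T = T') (h : Q'.Th E) : Q.Th F := by
  obtain ⟨α, a1, a2, a3, a4⟩ := h
  have e : img θ (Q.P 0) = Q'.P 0 := by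
    rw [QQ.P, hI.toGIso.img_sup ((Q.A.sub_le _ _).trans Q.R_le) Q.T_le, h1, h2, QQ.P]
  obtain ⟨β, rfl⟩ := (MulAut.congr (hI.toGIso.equiv (Q.P_le 0) e)).surjective α
  refine ⟨β, (hI.congr_mem_autGroup_iff _ e).1 a1, by rwa [MulEquiv.orderOf_eq] at a2,
    fun c => a3 (by rw [c, map_one]), fun x hx hT => hI.toGIso.injOn (Q.P_le 0 (autFun_mem β hx)) (Q.P_le 0 hx) ?_⟩
  rw [← hI.toGIso.autFun_congr _ e β hx]
  exact a4 _ (e ▸ mem_img_of_mem θ hx) (h2 ▸ mem_img_of_mem θ hT)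

theorem GT.iso_map (G : GT S n) (G' : GT S' n) : ∃ θ : Ω → Ω', (∀ i j, θ (G.D.u i j) = G'.D.u i j) ∧
    (∀ i j, θ (G.D.v i j) = G'.D.v i j) ∧ (∀ i j, θ (G.D.u i j * G.h) = G'.D.u i j * G'.h) ∧
    ∀ i j, θ (G.D.v i j * G.h) = G'.D.v i j * G'.h := by
  classical
  obtain ⟨θ, ha, hb⟩ := G.D.exists_coordMap G'.D
  have k : ∀ {x}, x ∈ G.K → x * G.h ∉ G.K := fun hx c => G.mul_h_ne hx c rfl
  exact ⟨fun g => if g ∈ G.K then θ g else θ (g * G.h) * G'.h, fun i j => by simp only [if_pos (G.D.u_mem i j), ha],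
    fun i j => by simp only [if_pos (G.D.v_mem i j), hb],
    fun i j => by simp only [if_neg (k (G.D.u_mem i j)), G.mul_h_h, ha],
    fun i j => by simp only [if_neg (k (G.D.v_mem i j)), G.mul_h_h, hb]⟩

theorem GT.exists_fIso (G : GT S n) (G' : GT S' n) (hF : G.Pk F) (hE : G'.Pk E)
    (H : ∀ F₁ F₂ : FusionSystem S, G.Pk F₁ → G.Pk F₂ → F₁ ≤ F₂) : ∃ θ η, FIso F E θ η := by
  obtain ⟨θ, a1, a2, a3, a4⟩ := G.iso_map G'
  obtain ⟨η, b1, b2, b3, b4⟩ := G'.iso_map G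
  have h : GIso S S' θ η := by
    refine ⟨fun x hx y hy => ?_, fun x hx => ?_, fun x hx => ?_, fun x hx => ?_, fun x hx => ?_⟩
    · obtain ⟨i, k, rfl | rfl | rfl | rfl⟩ := (G.mem x).1 hx <;>
        obtain ⟨j, l, rfl | rfl | rfl | rfl⟩ := (G.mem y).1 hy <;>
        simp only [← mul_assoc, WR.u_mul_u, WR.u_mul_v, WR.v_mul_u, WR.v_mul_v, uh_mul_u, uh_mul_v, vh_mul_u, vh_mul_v,
          mul_h_h, a1, a2, a3, a4]
    · obtain ⟨i, j, rfl | rfl | rfl | rfl⟩ := (G.mem x).1 hx <;> refine (G'.mem _).2 ⟨i, j, ?_⟩ <;>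
        simp only [a1, a2, a3, a4, true_or, or_true]
    · obtain ⟨i, j, rfl | rfl | rfl | rfl⟩ := (G'.mem x).1 hx <;> refine (G.mem _).2 ⟨i, j, ?_⟩ <;>
        simp only [b1, b2, b3, b4, true_or, or_true]
    · obtain ⟨i, j, rfl | rfl | rfl | rfl⟩ := (G.mem x).1 hx <;> simp only [a1, a2, a3, a4, b1, b2, b3, b4]
    · obtain ⟨i, j, rfl | rfl | rfl | rfl⟩ := (G'.mem x).1 hx <;> simp only [a1, a2, a3, a4, b1, b2, b3, b4]
  have hI := (h.symm.fIso_transport E).symm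
  obtain ⟨y1, y2⟩ := iso_img_mc h G.qq.R_le G.qq.A G'.qq.A (fun i => a1 _ _) fun i => a2 _ _
  obtain ⟨t1, t2⟩ := iso_img_mc h G.qq.T_le G.qq.B G'.qq.B (fun i => a1 _ _) fun i => a4 _ _
  have eM : img θ G.M = G'.M := Subgroup.ext fun y => by
    simp only [h.mem_img G.M_le, G.mem_M, G'.mem_M]
    exact ⟨by rintro ⟨_, ⟨i, j, rfl | rfl⟩, rfl⟩; exacts [⟨i, j, .inl (a1 i j)⟩, ⟨i, j, .inr (a3 i j)⟩], by
      rintro ⟨i, j, rfl | rfl⟩; exacts [⟨_, ⟨i, j, .inl rfl⟩, a1 i j⟩, ⟨_, ⟨i, j, .inr rfl⟩, a3 i j⟩]⟩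
  have ez : θ G.qq.z = G'.qq.z := by rw [qq_z, qq_z, a1]
  have eh : θ G.h = G'.h := by simpa only [WR.u_zero, one_mul] using a3 0 0
  have hE' : G.Pk (h.symm.transport E) := by
    refine ⟨hI.isSaturated_iff.1 hE.sat, fun P f hf hz e x hx hY => ?_, ?_,
      G.qq.iso_th G'.qq hI (y2 _ _) t1 hE.th, G.qq.symm.iso_th G'.qq.symm hI (t2 _ _) y1 hE.th'⟩
    · have := hE.ri _ _ (hI.mor P f hf) (ez ▸ mem_img_of_mem θ hz) (by rw [← ez, h.left _ (hf.le hz), e])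
        _ (mem_img_of_mem θ hx) (y1 ▸ mem_img_of_mem θ hY)
      rwa [h.left _ (hf.le hx), ← y1, h.mem_img_iff G.qq.R_le (hf.mem hx)] at this
    · obtain ⟨f, hf, e1, e2⟩ := hE.std
      exact ⟨_, hI.mor_pull G.M_le (eM ▸ hf), fun i j => by rw [a1, e1, b1], by rw [eh, e2, ← eh, h.left _ G.h_mem]⟩
  exact ⟨θ, η, fIso_of_eq_transport h (fusionSystem_le_antisymm (H _ _ hF hE') (H _ _ hE' hF))⟩

end CL.WQ
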