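/-
Weakly closed quaternion subgroups: in the wreathed case only the scalars `±1` occur.
-/
import Cfsg.Agent.WQ.Base

set_option autoImplicit false

open Cfsg Cfsg.FusionSystem Subgroup CL.Inv CL.Grp CL.Fus
open scoped Pointwise

namespace CL.WQ

variable {Ω : Type*} [Group Ω] {S R P : Subgroup Ω} {F : FusionSystem S} {n : ℕ} {D : MC R n 0 (2 * zq n)}
  {g g' x y k : Ω} {i j l l' : ZMod (2 ^ n)}

theorem kill_sq_cases (hn : 2 ≤ n) (h : i * i = 1) : i = 1 ∨ i = 1 + 2 * zq n ∨ i = -1 ∨ i = -1 + 2 * zq n := by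
  obtain ⟨r, rfl | rfl⟩ := zm_even_or_odd i
  · exact absurd (show 2 * (2 * r * r) = 2 * 0 + 1 by linear_combination h) (zm_even_ne_odd (by omega) _ _)
  obtain ⟨t, rfl | rfl⟩ := zm_even_or_odd r
  · rcases zm_two_mul_eq_zero hn (i := 4 * t) (eq_zero_of_odd_mul (r := t) (by linear_combination h)) with e | e
    exacts [.inl (by linear_combination e), .inr (.inl (by linear_combination e))]
  · rcases zm_two_mul_eq_zero hn (i := 4 * t + 4) (eq_zero_of_odd_mul (r := t) (by linear_combination h)) with e | e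
    exacts [.inr (.inr (.inl (by linear_combination e))), .inr (.inr (.inr (by linear_combination e)))]

theorem kill_mem_zp {G : Type*} [Group G] {z a : G} (h : z * z = 1) : a ∈ zpowers z ↔ a = 1 ∨ a = z := by
  refine ⟨fun ⟨n, hn⟩ => ?_, by rintro (rfl | rfl) <;> simp⟩
  obtain ⟨k, rfl | rfl⟩ := Int.even_or_odd' n <;> simp [← hn, zpow_add, zpow_mul, pow_two, h]

theorem kill_act_triv (h : Act D k i j) (hi : i = 1 ∨ i = -1) (hx : x ∈ R) (hy : y ∈ R) (h1 : k * x = x * k)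
    (h2 : k * y = y * k) (h3 : x * y ≠ y * x) : Act D k 1 0 := by
  have key : ∀ p q, k * D.a p = D.a p * k → k * D.b q = D.b q * k → D.a p * D.b q ≠ D.b q * D.a p → Act D k 1 0 :=
    fun p q a b c => by
      rcases hi with rfl | rfl
      · exact h.congr rfl (by linear_combination h.comm_b.1 b)
      · exact absurd (by rw [D.a_mul_b, D.b_mul_a, D.b_eq_iff]; linear_combination -h.comm_a.1 a) c
  obtain ⟨p, rfl | rfl⟩ := (D.mem x).1 hx <;> obtain ⟨q, rfl | rfl⟩ := (D.mem y).1 hy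
  · exact absurd (by rw [D.a_mul_a, D.a_mul_a, add_comm]) h3
  · exact key p q h1 h2 h3
  · exact key q p h2 h1 h3.symm
  · rcases hi with rfl | rfl
    · exact h.congr rfl (by linear_combination h.comm_b.1 h1)
    · exact absurd (by
        rw [D.b_mul_b, D.b_mul_b, D.a_eq_iff]; linear_combination h.comm_b.1 h2 - h.comm_b.1 h1) h3

theorem kill_act (H : Hyp F D) (hg : g ∈ S) (h : g * D.a 1 * g⁻¹ = D.a i) : ∃ j, Act D g i j := by
  obtain ⟨i', j, a⟩ := H.exists_act hg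
  exact ⟨j, a.congr (by simpa using D.a_eq_iff.1 ((a.1 1).symm.trans h)) rfl⟩

namespace WA

variable (W : WA F D)

/-- `g` acts on the base group as the scalar `l`. -/
def KillSc (g : Ω) (l : ZMod (2 ^ n)) : Prop := ∀ i j, g * W.W.u i j * g⁻¹ = W.W.u (l * i) (l * j)

variable {W}

theorem KillSc.mul (h : W.KillSc g l) (h' : W.KillSc g' l') : W.KillSc (g * g') (l * l') := fun i j => by
  rw [show g * g' * W.W.u i j * (g * g')⁻¹ = g * (g' * W.W.u i j * g'⁻¹) * g⁻¹ by group, h', h, mul_assoc, mul_assoc]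

theorem KillSc.congr (h : W.KillSc g l) (e : l = l') : W.KillSc g l' := e ▸ h

theorem kill_sc_u (p q : ZMod (2 ^ n)) : W.KillSc (W.W.u p q) 1 := fun i j => by
  rw [W.W.conj_u_u, one_mul, one_mul]

theorem kill_u_mem (p q : ZMod (2 ^ n)) : W.W.u p q ∈ cen S (W.W.u (2 * zq n) 0) :=
  mem_cen.2 ⟨W.K_le (W.W.u_mem p q), W.W.u_comm_u _ _ _ _⟩

theorem KillSc.odd (h : W.KillSc g l) : ∃ r, l = 2 * r + 1 := odd_of_half_ne D.two_le fun e => by
  have := h (2 * zq n) 0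
  rw [e, mul_zero, W.W.u_zero, conj_eq_one_iff, W.W.u_eq_one_iff] at this
  exact D.h2 this.1

theorem KillSc.mem (h : W.KillSc g l) (hg : g ∈ S) : g ∈ cen S (W.W.u (2 * zq n) 0) := by
  obtain ⟨r, rfl⟩ := h.odd
  exact mem_cen.2 ⟨hg, mul_inv_eq_iff_eq_mul.1 (by rw [h, half_mul_odd D.two_le, mul_zero])⟩

theorem KillSc.al (h : W.KillSc g l) (hg : g ∈ S) : W.KillSc (autFun W.al g) l := fun i j => by
  have e : W.W.u i j = autFun W.al (W.W.u j (-i - j)) := by rw [W.al_u]; congr 1; ring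
  rw [e, ← (homOn_autFun W.al).map_conj (h.mem hg) (kill_u_mem _ _), h, W.al_u]
  congr 1; ring

theorem KillSc.exists_u (h : W.KillSc g l) (h' : W.KillSc g' l) (hg : g ∈ S) (hg' : g' ∈ S) :
    ∃ p q, g' = g * W.W.u p q := by
  obtain ⟨p, q, e⟩ := W.W.mem_U.1 (W.cent _ (mul_mem (inv_mem hg) hg') fun i j => by
    calc _ = g⁻¹ * (g' * W.W.u i j * g'⁻¹) * g := by group
      _ = _ := by rw [h', ← h]; group)
  exact ⟨p, q, inv_mul_eq_iff_eq_mul.1 e⟩

theorem kill_fix (h : autFun W.al (W.W.u i j) = W.W.u i j) : i = 0 ∧ j = 0 := by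
  rw [W.al_u, W.W.u_eq_iff] at h
  obtain ⟨h, rfl⟩ := h
  have : i = 0 := eq_zero_of_odd_mul (r := 1) (by linear_combination -h)
  exact ⟨this, this⟩

theorem KillSc.exists_inv (H : Hyp F D) (h : W.KillSc g l) (hg : g ∈ S) (hl : l * l = 1) :
    ∃ f ∈ S, W.KillSc f l ∧ f * f = 1 := by
  have := H.fin
  have : Finite (cen S (W.W.u (2 * zq n) 0)) := .of_injective _ (inclusion_injective (cen_le _ _))
  have := Fact.mk Nat.prime_two
  obtain ⟨p, q, e⟩ := h.exists_u (h.al hg) hg (cen_le _ _ (autFun_mem W.al (h.mem hg)))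
  obtain ⟨f, hf, h1, h2⟩ := exists_fix_mem_coset (N := W.W.U) (H.pS.to_le (cen_le _ _)) (α := W.al)
    (Nat.coprime_two_right.2 W.al_odd) (fun x _ hx => by
      obtain ⟨i, j, rfl⟩ := W.W.mem_U.1 hx
      exact W.al_u i j ▸ W.W.u_mem_U _ _) (h.mem hg) (by rw [e, inv_mul_cancel_left]; exact W.W.u_mem_U _ _)
  obtain ⟨p', q', e'⟩ := W.W.mem_U.1 h2
  have h3 : W.KillSc f l := inv_mul_eq_iff_eq_mul.1 e' ▸ (h.mul (kill_sc_u p' q')).congr (mul_one l)
  obtain ⟨a, b, e''⟩ := W.W.mem_U.1 (W.cent _ (mul_mem (cen_le _ _ hf) (cen_le _ _ hf)) fun i j => by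
    rw [h3.mul h3, hl, one_mul, one_mul])
  obtain ⟨rfl, rfl⟩ := kill_fix (W := W) (i := a) (j := b) (by rw [← e'', (homOn_autFun W.al).map_mul hf hf, h1])
  exact ⟨f, cen_le _ _ hf, h3, e''.trans W.W.u_zero⟩

theorem kill_ww : W.W.v 0 0 * W.W.v 0 0 = 1 := by rw [W.W.v_mul_self, add_zero, W.W.u_zero]

theorem kill_center (W : WA F D) (hk : k ∈ S) (a : Act D k 1 0) (kk : k * k = 1) : k = 1 ∨ k = D.a (2 * zq n) := by
  have hz : D.a (2 * zq n) = W.W.u (2 * zq n) (2 * zq n) := by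
    rw [W.a_eq]; congr 1; linear_combination -D.h4
  have a1 := a.1 1
  have b0 := a.comm (D.b_mem 0)
  rw [W.a_eq, W.a_eq] at a1
  rw [W.b_eq] at b0
  obtain ⟨l, h | h⟩ := W.scal k hk
  · obtain rfl : l = 1 := by simpa using (W.W.u_eq_iff.1 ((h _ _).symm.trans a1)).1
    obtain ⟨p, q, rfl⟩ := W.W.mem_U.1 (W.cent k hk fun i j => by rw [h, one_mul, one_mul])
    obtain rfl := W.W.u_comm_v b0
    rcases (W.W.u_mul_self_cases kk).1 with rfl | rfl
    exacts [.inl W.W.u_zero, .inr hz.symm]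
  obtain rfl : l = -1 := by simpa [neg_eq_iff_eq_neg] using (W.W.u_eq_iff.1 ((h _ _).symm.trans a1)).1
  obtain ⟨w, hw⟩ : ∃ w, w = W.W.v 0 0 := ⟨_, rfl⟩
  have ww : w * w = 1 := hw ▸ kill_ww
  have hg : k * w ∈ S := mul_mem hk (hw ▸ W.K_le (W.W.v_mem 0 0))
  have h1 : W.KillSc (k * w) (-1) := fun i j => by
    rw [show k * w * W.W.u i j * (k * w)⁻¹ = k * (w * W.W.u i j * w⁻¹) * k⁻¹ by group, hw, W.W.conj_v_u, h]
  have h2 : W.W.v 0 (2 * zq n - 0) = W.W.u 0 (2 * zq n) * w := by rw [hw, W.W.u_mul_v]; congr 1 <;> ring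
  have h3 : k * w * (k * w) = W.W.u (2 * zq n) (2 * zq n) := by
    calc _ = (k * W.W.u 0 (2 * zq n) * k⁻¹)⁻¹ * (k * (W.W.u 0 (2 * zq n) * w)) * k * w := by group
      _ = (k * W.W.u 0 (2 * zq n) * k⁻¹)⁻¹ * W.W.u 0 (2 * zq n) * w * (k * k) * w := by rw [← h2, b0, h2]; group
      _ = _ := by
        rw [kk, mul_one, mul_assoc, ww, mul_one, h, W.W.u_inv, W.W.u_mul_u]; congr 1 <;> ring
  obtain ⟨p, q, e⟩ := h1.exists_u (h1.al hg) hg (cen_le _ _ (autFun_mem W.al (h1.mem hg)))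
  refine absurd (kill_fix (W := W) (i := 2 * zq n) (j := 2 * zq n) ?_).1 D.h2
  conv_lhs => rw [← h3, (homOn_autFun W.al).map_mul (h1.mem hg) (h1.mem hg), e]
  calc _ = k * w * W.W.u p q * (k * w)⁻¹ * (k * w * (k * w)) * W.W.u p q := by group
    _ = _ := by rw [h1, h3, W.W.u_mul_u, W.W.u_mul_u]; congr 1 <;> ring

theorem kill_four : ∀ (m : ℕ) {g : Ω} {l : ZMod (2 ^ n)}, g ∈ S → W.KillSc g l → g ^ 2 ^ m = 1 → l ≠ 1 → l ≠ -1 →
    ∃ g' ∈ S, W.KillSc g' (1 + 2 * zq n) ∨ W.KillSc g' (-1 + 2 * zq n)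
  | 0, g, l, _, h, e, h1, _ => by
    rw [pow_zero, pow_one] at e
    have := h 1 0
    rw [e, one_mul, inv_one, mul_one, W.W.u_eq_iff, mul_one] at this
    exact absurd this.1.symm h1
  | m + 1, g, l, hg, h, e, h1, h2 => by
    by_cases h3 : l * l = 1
    · rcases kill_sq_cases D.two_le h3 with rfl | rfl | rfl | rfl
      exacts [absurd rfl h1, ⟨g, hg, .inl h⟩, absurd rfl h2, ⟨g, hg, .inr h⟩]
    refine kill_four m (mul_mem hg hg) (h.mul h) (by rw [← pow_two, ← pow_mul, ← pow_succ', e]) h3 fun h4 => ?_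
    obtain ⟨r, rfl⟩ := h.odd
    exact zm_two_ne_zero D.two_le (eq_zero_of_odd_mul (r := r * r + r) (by linear_combination h4))

theorem kill_exists (H : Hyp F D) (hg : g ∈ S) (h : W.KillSc g l) (h1 : l ≠ 1) (h2 : l ≠ -1) :
    ∃ t ∈ S, t * t = 1 ∧ ∃ j, Act D t (1 + 2 * zq n) j := by
  obtain ⟨m, hm⟩ := H.pS ⟨g, hg⟩
  obtain ⟨g', hg', h' | h'⟩ := kill_four m hg h (congrArg Subtype.val hm) h1 h2
  · obtain ⟨f, hf, h3, ff⟩ := h'.exists_inv H hg' (by linear_combination (1 + zq n) * D.h4)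
    exact ⟨f, hf, ff, kill_act H hf (by rw [W.a_eq, W.a_eq, h3]; congr 1 <;> ring)⟩
  obtain ⟨f, hf, h3, ff⟩ := h'.exists_inv H hg' (by linear_combination (zq n - 1) * D.h4)
  obtain ⟨w, hw⟩ : ∃ w, w = W.W.v 0 0 := ⟨_, rfl⟩
  have ww : w * w = 1 := hw ▸ kill_ww
  have wi : w⁻¹ = w := inv_eq_of_mul_eq_one_right ww
  have hwS : w ∈ S := hw ▸ W.K_le (W.W.v_mem 0 0)
  have cw : ∀ i j, w * W.W.u i j * w⁻¹ = W.W.u j i := fun i j => hw ▸ W.W.conj_v_u _ _ _ _
  have cfw : ∀ i j, f * w * W.W.u i j * (f * w)⁻¹ = W.W.u ((-1 + 2 * zq n) * j) ((-1 + 2 * zq n) * i) := fun i j => by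
    rw [show f * w * W.W.u i j * (f * w)⁻¹ = f * (w * W.W.u i j * w⁻¹) * f⁻¹ by group, cw, h3]
  obtain ⟨y, y', e⟩ := h3.exists_u (g' := w * f * w⁻¹) (fun i j => by
    rw [show w * f * w⁻¹ * W.W.u i j * (w * f * w⁻¹)⁻¹ = w * (f * w⁻¹ * W.W.u i j * (f * w⁻¹)⁻¹) * w⁻¹ by group]
    conv_lhs => enter [1, 2]; rw [wi, cfw]
    rw [cw]) hf (mul_mem (mul_mem hwS hf) (inv_mem hwS))
  have e1 : y + y' = 0 := by
    have : f * (W.W.u y y' * W.W.u y' y) = f * 1 := by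
      calc _ = w * f * w⁻¹ * (w * W.W.u y y' * w⁻¹) := by rw [cw, e, mul_assoc]
        _ = w * w * f * (w * w)⁻¹ := by rw [conj_mul, ← e]; group
        _ = _ := by rw [ww]; group
    rw [mul_right_inj, W.W.u_mul_u, W.W.u_eq_one_iff] at this
    exact this.1
  have e2 : (-1 + 2 * zq n) * y + y = 0 := by
    have : f * W.W.u y y' * f⁻¹ * (f * f) * W.W.u y y' = 1 := by
      calc _ = f * W.W.u y y' * (f * W.W.u y y') := by group
        _ = _ := by rw [← e, conj_mul, ff]; group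
    rw [h3, ff, mul_one, W.W.u_mul_u, W.W.u_eq_one_iff] at this
    exact this.1
  have e3 : f * w * (f * w) = W.W.u y y' := by
    calc _ = f * (w * f * w⁻¹) := by rw [wi]; group
      _ = _ := by rw [e, ← mul_assoc, ff, one_mul]
  have ht := mul_mem (W.K_le (W.W.u_mem (-y) 0)) (mul_mem hf hwS)
  refine ⟨_, ht, ?_, kill_act H ht ?_⟩
  · calc _ = W.W.u (-y) 0 * (f * w * W.W.u (-y) 0 * (f * w)⁻¹) * (f * w * (f * w)) := by group
      _ = _ := by
        rw [cfw, e3, W.W.u_mul_u, W.W.u_mul_u, W.W.u_eq_one_iff]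
        exact ⟨by ring, by linear_combination e1 - e2⟩
  · rw [W.a_eq, W.a_eq]
    calc _ = W.W.u (-y) 0 * (f * w * W.W.u 1 (-1) * (f * w)⁻¹) * (W.W.u (-y) 0)⁻¹ := by group
      _ = _ := by
        rw [cfw, W.W.conj_u_u, W.W.u_eq_iff]
        exact ⟨by linear_combination -D.h4, by linear_combination D.h4⟩

theorem kill (hH : Hyp F D) (W : WA F D)
    (TH : ∀ {A : Type} [CommGroup A] (lam : S →* A), (∀ x y : S, x * x = 1 → y * y = 1 → lam x ≠ 1 → lam y ≠ 1 →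
      lam x = lam y) → ∀ {i : Ω}, i ∈ S → orderOf i = 2 → (∀ j : S, F.IsConjElt i j →
        F.IsFullyCentralized (zpowers (j : Ω)) → lam j ≠ 1) → i ∉ F.focalSubgroup) :
    ∀ g ∈ S, ∀ l, (∀ i j, g * W.W.u i j * g⁻¹ = W.W.u (l * i) (l * j)) → l = 1 ∨ l = -1 := by
  intro g hg l h
  by_contra hn
  obtain ⟨t, ht, tt, j, a⟩ := kill_exists (W := W) hH hg h (fun e => hn (.inl e)) fun e => hn (.inr e)
  have := hH.fin
  have := Fact.mk Nat.prime_two
  have ne : ∀ {j'}, ¬ Act D t 1 j' := fun b => D.h2 (by linear_combination (a.unique b).1)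
  choose I J hI using fun x : S => hH.exists_act x.2
  let lam0 : S →* ZMod (2 ^ n) :=
    { toFun := I
      map_one' := ((hI 1).unique Act.one).1
      map_mul' := fun x y => ((hI (x * y)).unique ((hI x).mul (hI y))).1 }
  obtain ⟨A, _, lam, hl⟩ : ∃ (A : Type) (_ : CommGroup A) (lam : S →* A), ∀ x, lam x = 1 ↔ I x = 1 ∨ I x = -1 := by
    refine ⟨(ZMod (2 ^ n))ˣ ⧸ zpowers (-1 : (ZMod (2 ^ n))ˣ), inferInstance,
      (QuotientGroup.mk' _).comp lam0.toHomUnits, fun x => ?_⟩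
    refine (QuotientGroup.eq_one_iff _).trans ((kill_mem_zp (by simp)).trans ?_)
    rw [Units.ext_iff, Units.ext_iff]
    rfl
  have h4 : ∀ x : S, x * x = 1 → lam x ≠ 1 → I x = 1 + 2 * zq n ∨ I x = -1 + 2 * zq n := fun x xx hx => by
    rcases kill_sq_cases D.two_le ((hI x).sq (congrArg Subtype.val xx)).1 with e | e | e | e
    exacts [absurd ((hl x).2 (.inl e)) hx, .inl e, absurd ((hl x).2 (.inr e)) hx, .inr e]
  refine TH lam (fun x y xx yy hx hy => mul_right_cancel (b := lam y) ?_) ht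
    (orderOf_eq_prime (by rw [pow_two, tt]) fun e => ne (e ▸ Act.one)) (fun k hk hc hk' => ?_) (hH.foc.ge ht)
  · rw [← map_mul, ← map_mul, yy, map_one, hl, show I (x * y) = I x * I y from lam0.map_mul x y]
    rcases h4 x xx hx with e | e <;> rcases h4 y yy hy with e' | e' <;> rw [e, e']
    exacts [.inl (by linear_combination (1 + zq n) * D.h4), .inr (by linear_combination zq n * D.h4),
      .inr (by linear_combination zq n * D.h4), .inl (by linear_combination (zq n - 1) * D.h4)]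
  obtain ⟨β, hβ, e⟩ := exists_mor_cen hH.pS hH.sat hk hc
  obtain ⟨h1, m, h2, h3⟩ := Hyp.exists_b_of_four hH.three a tt
  have hz := hH.z_mem_cen ht
  have c0 := self_mem_cen ht
  have c1 : D.a 2 ∈ cen S t := mem_cen.2 ⟨hH.le (D.a_mem _), h1.symm⟩
  have c2 : D.b m ∈ cen S t := mem_cen.2 ⟨hH.le (D.b_mem _), h2.symm⟩
  have h5 : β (D.a 2) * β (D.b m) ≠ β (D.b m) * β (D.a 2) := fun e => h3 (hβ.injOn (mul_mem c1 c2) (mul_mem c2 c1) (by
    rw [hβ.homOn.map_mul c1 c2, hβ.homOn.map_mul c2 c1, e]))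
  have h6 : β (D.a (2 * zq n)) = D.a (2 * zq n) := by_contra fun e =>
    h5 (hH.rz_abelian ((hH.rz_z (D.a_mem _)).map hβ hz c1) ((hH.rz_z (D.b_mem _)).map hβ hz c2) e)
  have h7 : ∀ c ∈ cen S t, (k : Ω) * β c = β c * k := fun c hc => by
    rw [← e, ← hβ.homOn.map_mul c0 hc, ← hβ.homOn.map_mul hc c0, (mem_cen.1 hc).2]
  rcases W.kill_center k.2 (kill_act_triv (hI k) ((hl k).1 hk') (hH.ri _ β hβ hz h6 _ c1 (D.a_mem _))
    (hH.ri _ β hβ hz h6 _ c2 (D.b_mem _)) (h7 _ c1) (h7 _ c2) h5)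
    (by rw [← e, ← hβ.homOn.map_mul c0 c0, tt, hβ.homOn.map_one]) with h8 | h8
  · exact ne (hβ.injOn c0 (one_mem _) (by rw [e, h8, hβ.homOn.map_one]) ▸ Act.one)
  · exact ne (hβ.injOn c0 hz (by rw [e, h8, h6]) ▸ Act.of_a _)

end WA

end CL.WQ
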