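/-
Weakly closed quaternion subgroups (S5176): a fusion system of type `G₂` is determined by the centralizer of the
central involution and the standard automorphism.
-/
import Cfsg.Agent.WQ.Defs

set_option autoImplicit false

open Cfsg Cfsg.FusionSystem Subgroup CL.Inv CL.Grp CL.Fus
open scoped Pointwise

namespace CL.WQ

variable {Ω : Type*} [Group Ω] {S R T : Subgroup Ω} {F F' : FusionSystem S} {n : ℕ}

theorem le_img2 {f : Ω → Ω} {a b : Ω} (h : HomOn (zpowers a ⊔ zpowers b) f) :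
    img f (zpowers a ⊔ zpowers b) = zpowers (f a) ⊔ zpowers (f b) := by
  rw [h.img_sup, h.img_zpowers (mem_sup_left (mem_zpowers a)), h.img_zpowers (mem_sup_right (mem_zpowers b))]

/-- Conjugacy by a map fixing `z`. -/
def LeEqv (F : FusionSystem S) (z g g' : Ω) : Prop := ∃ P f, Mor F P f ∧ z ∈ P ∧ g ∈ P ∧ f z = z ∧ f g = g'

theorem LeEqv.res {z g g' : Ω} (h : LeEqv F z g g') : ∃ f, Mor F (zpowers z ⊔ zpowers g) f ∧ f z = z ∧ f g = g' ∧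
    img f (zpowers z ⊔ zpowers g) = zpowers z ⊔ zpowers g' := by
  obtain ⟨P, f, hf, hz, hg, e1, e2⟩ := h
  have h1 := hf.mono (sup_le (zpowers_le.2 hz) (zpowers_le.2 hg))
  exact ⟨f, h1, e1, e2, by rw [le_img2 h1.homOn, e1, e2]⟩

theorem LeEqv.symm {z g g' : Ω} (h : LeEqv F z g g') : LeEqv F z g' g := by
  obtain ⟨P, f, hf, hz, hg, e1, rfl⟩ := h
  obtain ⟨k, hk, a, -⟩ := hf.exists_inv
  refine ⟨_, k, hk, e1 ▸ mem_img_of_mem f hz, mem_img_of_mem f hg, ?_, a g hg⟩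
  have := a z hz
  rwa [e1] at this

theorem LeEqv.trans {z g g' g'' : Ω} (h : LeEqv F z g g') (h' : LeEqv F z g' g'') : LeEqv F z g g'' := by
  obtain ⟨f, hf, e1, e2, e3⟩ := h.res
  obtain ⟨P, k, hk, hz, hg, a1, a2⟩ := h'
  exact ⟨_, _, hf.comp_img hk (e3 ▸ sup_le (zpowers_le.2 hz) (zpowers_le.2 hg)), mem_sup_left (mem_zpowers z),
    mem_sup_right (mem_zpowers g), by rw [e1, a1], by rw [e2, a2]⟩

/-- Both systems move `g` to `z` by the same map on `C_S(g)`. -/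
def LeGood (F F' : FusionSystem S) (z g : Ω) : Prop := ∃ β, Mor F (cen S g) β ∧ Mor F' (cen S g) β ∧ β g = z

theorem LeGood.of_map {z g : Ω} {P : Subgroup Ω} {γ : Ω → Ω} (h1 : Mor F P γ) (h2 : Mor F' P γ) (hg : g ∈ S)
    (hP : cen S g ≤ P) (h : LeGood F F' z (γ g)) : LeGood F F' z g := by
  obtain ⟨β, b1, b2, e⟩ := h
  have key : ∀ x ∈ cen S g, γ x ∈ cen S (γ g) := fun x hx => mem_cen.2 ⟨h1.mem (hP hx), by
    have hgP := hP (self_mem_cen hg)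
    rw [← h1.homOn.map_mul (hP hx) hgP, (mem_cen.1 hx).2, h1.homOn.map_mul hgP (hP hx)]⟩
  exact ⟨_, (h1.mono hP).comp b1 key, (h2.mono hP).comp b2 key, e⟩

namespace QQ

variable (Q : QQ S R T n)

theorem le_cent {x : Ω} (hx : x ∈ R) (h : ∀ y ∈ R, y * x = x * y) : x = 1 ∨ x = Q.z := by
  refine Q.A.mem_zpowers_z.1 ?_
  rw [← Q.A.centralizer_of_mem le_rfl (Q.A.a_mem _) (Q.A.b_mem 0)]
  exact ⟨mem_centralizer_iff.2 h, hx⟩

theorem le_I {x : Ω} (hx : x ∈ R) (hx' : x ∈ T) : x = 1 ∨ x = Q.z := Q.le_cent hx fun y hy => Q.comm y hy x hx'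

theorem le_zR : Q.z ∈ R := Q.A.a_mem _

theorem le_zT : Q.z ∈ T := Q.symm_z ▸ Q.symm.le_zR

theorem le_zz : Q.z * Q.z = 1 := by
  rw [z, Q.A.a_mul_a, Q.A.a_eq_one_iff]; linear_combination Q.A.h4

include Q in
theorem le_Z {g : Ω} (hg : g ∈ S) (h : ∀ x ∈ R, x * g = g * x) : g ∈ T := by
  obtain ⟨x, hx, y, hy, rfl | rfl⟩ := (Q.mem g).1 hg
  · rcases Q.le_cent hx (fun a ha => mul_right_cancel (b := y) (by
      rw [mul_assoc, h a ha, mul_assoc, mul_assoc, Q.comm a ha y hy])) with rfl | rfl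
    exacts [T.mul_mem T.one_mem hy, T.mul_mem Q.le_zT hy]
  · have h1 : x * Q.A.b (0 + 1) * x⁻¹ = Q.A.b 0 := by
      have h2 := Q.comm _ (Q.A.b_mem (0 + 1)) y hy
      calc x * Q.A.b (0 + 1) * x⁻¹ = x * (Q.A.b (0 + 1) * y) * Q.d * (x * y * Q.d)⁻¹ := by group
        _ = x * y * Q.d * Q.A.b 0 * (x * y * Q.d)⁻¹ := by rw [h2, ← Q.d_b]; group
        _ = _ := by rw [← h _ (Q.A.b_mem 0), mul_inv_cancel_right]
    have hn : 1 ≤ n := le_trans (by norm_num) Q.three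
    obtain ⟨j, rfl | rfl⟩ := (Q.A.mem x).1 hx
    · rw [Q.A.conj_a_b, Q.A.b_eq_iff] at h1
      exact (zm_even_ne_odd hn 0 j (by linear_combination -h1)).elim
    · rw [Q.A.conj_b_b, Q.A.b_eq_iff] at h1
      exact (zm_even_ne_odd hn j 0 (by linear_combination h1)).elim

theorem le_P {g : Ω} {i : ZMod (2 ^ n)} (hg : g ∈ Q.P i) (hR : g ∈ R) : g ∈ Q.A.sub (zq n) i := by
  have h1 : g ∈ ((Q.A.sub (zq n) i : Set Ω) * T) := by
    rw [← coe_mul_of_left_le_normalizer_right]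
    · exact hg
    · exact fun x hx => centralizer_le_normalizer _
        (mem_centralizer_iff.2 fun y hy => (Q.comm x (Q.A.sub_le _ _ hx) y hy).symm)
  obtain ⟨x, hx, y, hy, rfl⟩ := h1
  rcases Q.le_I ((R.mul_mem_cancel_left (Q.A.sub_le _ _ hx)).1 hR) hy with rfl | rfl
  · exact mul_mem hx (one_mem _)
  · exact mul_mem hx ((Q.A.a_mem_sub ⟨2, mul_comm _ _⟩ _ _).2 ⟨2, mul_comm _ _⟩)

theorem le_pow (k : ℕ) : (∀ i, Q.d ^ k * Q.A.b i * (Q.d ^ k)⁻¹ = Q.A.b (i + k)) ∧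
    ∀ i, Q.d ^ k * Q.B.a i * (Q.d ^ k)⁻¹ = Q.B.a i := by
  induction k with
  | zero => simp
  | succ k ih =>
    have e : ∀ x, Q.d ^ (k + 1) * x * (Q.d ^ (k + 1))⁻¹ = Q.d * (Q.d ^ k * x * (Q.d ^ k)⁻¹) * Q.d⁻¹ := fun x => by
      rw [pow_succ']; group
    exact ⟨fun i => by rw [e, ih.1, Q.d_b, Nat.cast_succ, add_assoc], fun i => by rw [e, ih.2, Q.d_a']⟩

theorem le_conj (F : FusionSystem S) {s g : Ω} (hs : s ∈ S) (hg : g ∈ S) : LeEqv F Q.z g (s * g * s⁻¹) :=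
  ⟨S, _, mor_conj F le_rfl hs, Q.R_le Q.le_zR, hg, mul_inv_eq_iff_eq_mul.2 (Q.z_comm hs), rfl⟩

theorem le_th (th : Q.Th F) : ∃ j, ∀ y ∈ T, LeEqv F Q.z (Q.A.a (zq n) * y) (Q.A.b j * y) := by
  obtain ⟨θ, hθ, ho, h1, hf⟩ := th
  have := Q.finite
  have hT : T ≤ Q.P 0 := le_sup_right
  have h0 : Q.A.sub (zq n) 0 ≤ Q.P 0 := le_sup_left
  have := finite_of_le (h0.trans (Q.P_le 0))
  have hm := mor_autFun (Q.P_le 0) hθ
  have hfix : ∀ y ∈ T, autFun θ y = y := fun y hy => mem_fixAut.1 hf y (hT hy) hy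
  have hst : θ ∈ stabAut (Q.P 0) (Q.A.sub (zq n) 0) := mem_stabAut_of_finite h0 fun x hx =>
    Q.le_P (autFun_mem θ (h0 hx)) (Q.symm.le_Z (hm.mem (h0 hx)) fun y hy => by
      have e := congrArg (autFun θ) (Q.comm x (Q.A.sub_le _ _ hx) y hy)
      rw [hm.homOn.map_mul (h0 hx) (hT hy), hm.homOn.map_mul (hT hy) (h0 hx), hfix y hy] at e
      exact e.symm)
  have hres : ∀ x ∈ Q.A.sub (zq n) 0, autFun θ x = autFun (resAut h0 ⟨θ, hst⟩) x := fun x hx =>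
    (autFun_resAut h0 ⟨θ, hst⟩ hx).symm
  obtain ⟨j, hj⟩ := Q.A.aut_moves (Q.A.sub_le _ 0) (Q.A.a_mem_sub ⟨2, mul_comm _ _⟩ 0) (α := resAut h0 ⟨θ, hst⟩)
    (Nat.coprime_two_right.1 (orderOf_res_coprime h0 hres (Nat.coprime_two_right.2 ho))) fun e =>
      h1 (aut_ext fun x hx => (HomOn.eq_on_sup hm.homOn (homOn_id _) (fun x hx => by
        rw [hres x hx, e, autFun_one hx]) hfix x hx).trans (autFun_one hx).symm)
  have ha := Q.A.a_mem_sub_self (zq n) 0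
  refine ⟨j, fun y hy => ⟨_, _, hm, hT Q.le_zT, mul_mem (h0 ha) (hT hy), hfix _ Q.le_zT, ?_⟩⟩
  rw [hm.homOn.map_mul (h0 ha) (hT hy), hfix y hy, hres _ ha, autFun_apply _ ha, hj]

theorem le_A (th : Q.Th F) {x y : Ω} (hx : x ∈ R) (h : x * x = Q.z) (hy : y ∈ T) : ∃ s ∈ S,
    s * Q.B.a (zq n) * s⁻¹ = Q.B.a (zq n) ∧ LeEqv F Q.z (x * y) (Q.A.a (zq n) * (s * y * s⁻¹)) := by
  have hxy := S.mul_mem (Q.R_le hx) (Q.T_le hy)
  obtain ⟨i, rfl | rfl⟩ := (Q.A.mem x).1 hx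
  · refine ⟨1, S.one_mem, by simp, ?_⟩
    rw [Q.A.a_mul_a, z, Q.A.a_eq_iff] at h
    rcases zm_two_mul_eq_half Q.A.two_le (i := i) (by linear_combination h) with rfl | rfl
    · simpa using Q.le_conj F S.one_mem hxy
    · have h1 := Q.le_conj F (Q.R_le (Q.A.b_mem 0)) hxy
      rw [show Q.A.b 0 * (Q.A.a (-zq n) * y) * (Q.A.b 0)⁻¹ = Q.A.b 0 * Q.A.a (-zq n) * (y * (Q.A.b 0)⁻¹) by group,
        ← Q.comm _ (R.inv_mem (Q.A.b_mem 0)) y hy, ← mul_assoc, Q.A.conj_b_a,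
        show (0 - 1) * -zq n = zq n by ring] at h1
      simpa using h1
  · obtain ⟨j, hj⟩ := Q.le_th th
    obtain ⟨k, hk⟩ := zm_natCast_surj (j - i)
    have hs := S.pow_mem Q.d_mem k
    refine ⟨_, hs, (Q.le_pow k).2 _, LeEqv.trans ?_ (hj _ (Q.symm.conj_mem hs hy)).symm⟩
    have h1 := Q.le_conj F hs hxy
    rwa [show Q.d ^ k * (Q.A.b i * y) * (Q.d ^ k)⁻¹ = Q.d ^ k * Q.A.b i * (Q.d ^ k)⁻¹ * (Q.d ^ k * y * (Q.d ^ k)⁻¹) by
      group, (Q.le_pow k).1, ← hk, add_sub_cancel] at h1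

theorem le_B (th : Q.Th F) (th' : Q.symm.Th F) {x y : Ω} (hx : x ∈ R) (hy : y ∈ T) (h : x * y * (x * y) = 1)
    (h1 : x * y ≠ 1) (hz : x * y ≠ Q.z) : LeEqv F Q.z (x * y) Q.z1 := by
  have e : x * x = (y * y)⁻¹ := eq_inv_of_mul_eq_one_left (by
    rw [← h, mul_assoc, mul_assoc, ← mul_assoc y x, ← Q.comm x hx y hy, mul_assoc])
  rcases Q.le_I (R.mul_mem hx hx) (e ▸ T.inv_mem (T.mul_mem hy hy)) with e1 | e1
  · have e2 : y * y = 1 := inv_eq_one.1 (e.symm.trans e1)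
    exfalso
    rcases Q.A.quaternion_involution hx e1 with rfl | rfl <;> rcases Q.B.quaternion_involution hy e2 with rfl | rfl
    exacts [h1 (mul_one _), hz ((one_mul _).trans Q.z_eq.symm), hz (mul_one _), h1 (Q.z_eq ▸ e1)]
  · have e2 : y * y = Q.z := by rw [← inv_inv (y * y), ← e, e1, inv_eq_of_mul_eq_one_right Q.le_zz]
    obtain ⟨s, hs, -, h2⟩ := Q.le_A th hx e1 hy
    have hy' := Q.symm.conj_mem hs hy
    obtain ⟨t, -, ht, h3⟩ := Q.symm.le_A th' hy' (by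
      rw [Q.symm_z, show s * y * s⁻¹ * (s * y * s⁻¹) = s * (y * y) * s⁻¹ by group, e2, Q.z_comm hs,
        mul_inv_cancel_right]) (Q.A.a_mem (zq n))
    change t * Q.A.a (zq n) * t⁻¹ = Q.A.a (zq n) at ht
    rw [Q.symm_z, ht, ← Q.comm _ (Q.A.a_mem _) _ hy'] at h3
    rw [z1, Q.comm _ (Q.A.a_mem _) _ (Q.B.a_mem _)]
    exact h2.trans h3

end QQ

namespace GT

variable (G : GT S n)

theorem le_cen_z1 : cen S G.qq.z1 ≤ G.M := fun g hg => by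
  obtain ⟨hS, h⟩ := mem_cen.1 hg
  rw [G.qq_z1] at h
  obtain ⟨i, j, rfl | rfl | rfl | rfl⟩ := (G.mem g).1 hS
  · exact ⟨i, j, Or.inl rfl⟩
  · rw [G.D.v_mul_u, G.D.u_mul_v, G.D.v_eq_iff] at h
    exact (G.D.h2 (by linear_combination -h.1)).elim
  · exact ⟨i, j, Or.inr rfl⟩
  · rw [G.vh_mul_u, ← mul_assoc, G.D.u_mul_v, mul_left_inj, G.D.v_eq_iff] at h
    exact (G.D.h2 (by linear_combination -h.1)).elim

theorem le_cen_odd {i j r : ZMod (2 ^ n)} (e : i + j = 2 * r + 1) : cen S (G.D.u i j * G.h) ≤ G.M := fun g hg => by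
  obtain ⟨hS, h⟩ := mem_cen.1 hg
  have hn : 1 ≤ n := le_trans (by norm_num) G.three
  obtain ⟨k, l, rfl | rfl | rfl | rfl⟩ := (G.mem g).1 hS
  · exact ⟨k, l, Or.inl rfl⟩
  · rw [← mul_assoc, G.D.v_mul_u, G.uh_mul_v, mul_left_inj, G.D.v_eq_iff] at h
    exact (zm_even_ne_odd hn (k + j) r (by linear_combination h.1 + e)).elim
  · exact ⟨k, l, Or.inr rfl⟩
  · rw [← mul_assoc, ← mul_assoc, G.vh_mul_u, G.uh_mul_v, mul_left_inj, mul_left_inj, G.D.v_eq_iff] at h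
    exact (zm_even_ne_odd hn k r (by linear_combination h.1 + e)).elim

theorem le_normal : S ≤ normalizer ((zpowers G.qq.z ⊔ zpowers G.qq.z1 : Subgroup Ω) : Set Ω) := fun s hs => by
  have := G.qq.finite
  have hz := G.qq.R_le G.qq.le_zR
  have := finite_of_le (sup_le (zpowers_le.2 hz) (zpowers_le.2 (G.qq_z1 ▸ G.u_mem _ _ : G.qq.z1 ∈ S)))
  have a : G.qq.z ∈ zpowers G.qq.z ⊔ zpowers G.qq.z1 := mem_sup_left (mem_zpowers _)
  have b : G.qq.z1 ∈ zpowers G.qq.z ⊔ zpowers G.qq.z1 := mem_sup_right (mem_zpowers _)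
  have key : ∀ x ∈ G.K, x * G.qq.z1 * x⁻¹ ∈ zpowers G.qq.z ⊔ zpowers G.qq.z1 := fun x hx => by
    have c := mul_mem a b
    rw [G.qq_z, G.qq_z1] at *
    rw [G.D.u_mul_u, show 2 * zq n + 2 * zq n = 0 by linear_combination G.D.h4, add_zero] at c
    rcases G.D.conj_u_cases hx (2 * zq n) 0 with e | e <;> rwa [e]
  have key' : ∀ x ∈ G.K, x * G.h * G.qq.z1 * (x * G.h)⁻¹ ∈ zpowers G.qq.z ⊔ zpowers G.qq.z1 := fun x hx => by
    have e : G.h * G.qq.z1 = G.qq.z1 * G.h := by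
      rw [G.qq_z1, G.h_u, neg_zero, show -(2 * zq n) = 2 * zq n by linear_combination -G.D.h4]
    rw [mul_assoc x, e, show x * (G.qq.z1 * G.h) * (x * G.h)⁻¹ = x * G.qq.z1 * x⁻¹ by group]
    exact key x hx
  refine mem_normalizer_of_finite (img_le_iff.1 ?_)
  rw [le_img2 (homOn_conj _ s), G.qq.z_comm hs, mul_inv_cancel_right]
  refine sup_le le_sup_left (zpowers_le.2 ?_)
  obtain ⟨i, j, rfl | rfl | rfl | rfl⟩ := (G.mem s).1 hs
  exacts [key _ (G.D.u_mem _ _), key _ (G.D.v_mem _ _), key' _ (G.D.u_mem _ _), key' _ (G.D.v_mem _ _)]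

theorem le_good (hF : F.IsSaturated 2) (th : G.qq.Th F) (th' : G.qq.symm.Th F) (s : G.Std F) (s' : G.Std F')
    (hc : ∀ P f, Mor F P f → G.qq.z ∈ P → f G.qq.z = G.qq.z → Mor F' P f) {g : Ω} (hg : g ∈ S) (h : g * g = 1)
    (h1 : g ≠ 1) : LeGood F F' G.qq.z g := by
  have := G.qq.finite
  have hS := G.qq.isPGroup
  have h4 := G.D.h4
  obtain ⟨α, hα, au, ah⟩ := s
  have uM : ∀ i j, G.D.u i j ∈ G.M := fun i j => ⟨i, j, Or.inl rfl⟩
  have hM : G.h ∈ G.M := ⟨0, 0, Or.inr (by rw [G.D.u_zero, one_mul])⟩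
  have auh : ∀ i j, α (G.D.u i j * G.h) = G.D.u (-i - j) i * G.h := fun i j => by
    rw [hα.homOn.map_mul (uM _ _) hM, au, ah]
  have hα' : Mor F' G.M α := by
    obtain ⟨β, hβ, bu, bh⟩ := s'
    refine hβ.congr ?_
    rintro _ ⟨i, j, rfl | rfl⟩
    · rw [au, bu]
    · rw [auh, hβ.homOn.map_mul (uM _ _) hM, bu, bh]
  have αM : ∀ x ∈ G.M, α x ∈ G.M := by
    rintro _ ⟨i, j, rfl | rfl⟩
    exacts [⟨_, _, Or.inl (au i j)⟩, ⟨_, _, Or.inr (auh i j)⟩]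
  have gz : LeGood F F' G.qq.z G.qq.z := ⟨_, mor_id F (cen_le _ _), mor_id F' (cen_le _ _), rfl⟩
  have z1S : G.qq.z1 ∈ S := G.qq_z1 ▸ G.u_mem _ _
  have gz1 : LeGood F F' G.qq.z G.qq.z1 := LeGood.of_map hα hα' z1S G.le_cen_z1 (by
    rwa [G.qq_z1, au, show -(2 * zq n) - 0 = 2 * zq n by linear_combination -h4, ← G.qq_z])
  have k1 : ∀ g, ∀ x ∈ G.D.Y, ∀ y ∈ G.T, g = x * y → g * g = 1 → g ≠ 1 → LeGood F F' G.qq.z g := by
    rintro _ x hx y hy rfl h h1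
    by_cases hz : x * y = G.qq.z
    · exact hz ▸ gz
    obtain ⟨f, hf, e1, e2, e3⟩ := (G.qq.le_B th th' hx hy h h1 hz).res
    obtain ⟨β, hβ, e⟩ := hf.extend_centralizerIn (receptive_of_fullyNormalized hS hF (e3 ▸
      isFullyNormalized_of_normalizerIn_eq F (e3 ▸ hf.img_le) G.le_normal))
    have a : G.qq.z ∈ zpowers G.qq.z ⊔ zpowers (x * y) := mem_sup_left (mem_zpowers _)
    have b : x * y ∈ zpowers G.qq.z ⊔ zpowers (x * y) := mem_sup_right (mem_zpowers _)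
    refine LeGood.of_map hβ (hc _ _ hβ (mem_sup_left a) ((e _ a).trans e1)) (hf.le b) (fun w hw => mem_sup_right ?_)
      (by rwa [e _ b, e2])
    obtain ⟨hw, hw'⟩ := mem_cen.1 hw
    have : zpowers G.qq.z ⊔ zpowers (x * y) ≤ centralizer {w} := sup_le
      (zpowers_le.2 (mem_centralizer_singleton_iff.2 (G.qq.z_comm hw).symm))
      (zpowers_le.2 (mem_centralizer_singleton_iff.2 hw'.symm))
    exact mem_centralizerIn'.2 ⟨hw, fun c hc => mem_centralizer_singleton_iff.1 (this hc)⟩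
  have k2 : ∀ i j r, i + j = 2 * r → LeGood F F' G.qq.z (G.D.u i j * G.h) := fun i j r e =>
    k1 _ _ (G.D.mcY.b_mem (i - r - 2 * zq n)) _ (G.mcT.b_mem r) (by
      change _ = _ * (G.D.v _ _ * G.h)
      rw [G.D.mcY_b, ← mul_assoc, G.D.v_mul_v]; congr 2
      · ring
      · linear_combination e - h4) (by
      rw [← mul_assoc, G.uh_mul_u, G.mul_h_h, sub_self, sub_self, G.D.u_zero])
      (G.mul_h_ne (G.D.u_mem _ _) G.K.one_mem)
  obtain ⟨i, j, rfl | rfl | rfl | rfl⟩ := (G.mem g).1 hg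
  · obtain ⟨r, e⟩ : ∃ r, i + j = 2 * r := by
      obtain ⟨rfl | rfl, rfl | rfl⟩ := G.D.u_mul_self_cases h
      exacts [⟨0, by ring⟩, ⟨zq n, by ring⟩, ⟨zq n, by ring⟩, ⟨2 * zq n, by ring⟩]
    refine k1 _ _ (G.D.mcY.a_mem (i - r)) _ (G.mcT.a_mem r) ?_ h h1
    change _ = _ * G.D.u _ _
    rw [G.D.mcY_a, G.D.u_mul_u]; congr 1
    · ring
    · linear_combination e
  · obtain rfl := G.D.v_mul_self_eq_one h
    refine k1 _ _ (G.D.mcY.b_mem (i + zq n)) _ (G.mcT.a_mem (-zq n)) ?_ h h1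
    change _ = _ * G.D.u _ _
    rw [G.D.mcY_b, G.D.v_mul_u]; congr 1 <;> ring
  · obtain ⟨r, e | e⟩ := zm_even_or_odd (i + j)
    · exact k2 i j r e
    obtain ⟨t, e' | e'⟩ := zm_even_or_odd j
    · exact LeGood.of_map hα hα' hg (G.le_cen_odd e) (auh i j ▸ k2 _ _ (-t) (by linear_combination -e'))
    · refine LeGood.of_map (hα.comp hα αM) (hα'.comp hα' αM) hg (G.le_cen_odd e) ?_
      rw [auh, auh]
      exact k2 _ _ (t - r) (by linear_combination e' - e)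
  · have h2 := h
    rw [← mul_assoc, G.vh_mul_v, G.mul_h_h, G.D.u_eq_one_iff] at h2
    obtain rfl := sub_eq_zero.1 h2.1
    refine k1 _ _ (G.D.mcY.a_mem (zq n)) _ (G.mcT.b_mem (i - zq n)) ?_ h h1
    change _ = _ * (G.D.v _ _ * G.h)
    rw [G.D.mcY_a, ← mul_assoc, G.D.u_mul_v]; congr 2 <;> ring

end GT

theorem GT.le_of (G : GT S n) {F F' : FusionSystem S} (hF : F.IsSaturated 2) (th : G.qq.Th F)
    (th' : G.qq.symm.Th F) (s : G.Std F) (s' : G.Std F')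
    (hc : ∀ P f, Mor F P f → G.qq.z ∈ P → f G.qq.z = G.qq.z → Mor F' P f) : F ≤ F' := by
  have := G.qq.finite
  have hS := G.qq.isPGroup
  have hz := G.qq.R_le G.qq.le_zR
  refine le_iff_mor.2 (isSubsystemOf_iff.1 (alperin_subsystem hS hF fun A a hA ha _ => ?_))
  have hzA : G.qq.z ∈ A := by
    rcases hA with rfl | hA
    · exact hz
    · exact centralizerIn_le_of_centric (isEssential_iff.1 hA).1
        (mem_centralizerIn'.2 ⟨hz, fun y hy => G.qq.z_comm (ha.le hy)⟩)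
  obtain ⟨β, b1, b2, e⟩ := G.le_good hF th th' s s' hc (ha.mem hzA)
    (by rw [← ha.homOn.map_mul hzA hzA, G.qq.le_zz, ha.homOn.map_one])
    fun e => G.D.h2 (G.qq.A.a_eq_one_iff.1 (ha.injOn hzA A.one_mem (e.trans ha.homOn.map_one.symm)))
  have key : ∀ x ∈ A, a x ∈ cen S (a G.qq.z) := fun x hx => mem_cen.2 ⟨ha.mem hx, by
    rw [← ha.homOn.map_mul hx hzA, G.qq.z_comm (ha.le hx), ha.homOn.map_mul hzA hx]⟩
  obtain ⟨k, hk, c, -⟩ := b2.exists_inv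
  exact ((hc _ _ (ha.comp b1 key) hzA e).comp hk fun x hx => mem_img_of_mem β (key x hx)).congr
    fun x hx => c _ (key x hx)

end CL.WQ
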