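/-
Weakly closed quaternion subgroups: the quasi-dihedral case.
-/
import Cfsg.Agent.WQ.Base

set_option autoImplicit false

open Cfsg Cfsg.FusionSystem Subgroup CL.Inv CL.Grp CL.Fus
open scoped Pointwise commutatorElement

namespace CL.WQ

variable {Ω : Type*} [Group Ω] {S R Q A : Subgroup Ω} {F : FusionSystem S} {n : ℕ} {D : MC R n 0 (2 * zq n)}
  {g x y p q : Ω} {f : Ω → Ω}

namespace Qd

/-- The conjugates of the involution of `R` other than itself. -/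
def Zs (F : FusionSystem S) (D : MC R n 0 (2 * zq n)) (y : Ω) : Prop :=
  F.IsConjElt y (D.a (2 * zq n)) ∧ y ≠ D.a (2 * zq n)

theorem Zs.mem (h : Zs F D y) : y ∈ S := (Hyp.conj_facts h.1).1

theorem Zs.sq (h : Zs F D y) : y * y = 1 := (Hyp.conj_facts h.1).2.1

theorem Zs.inv (h : Zs F D y) : y⁻¹ = y := inv_eq_of_mul_eq_one_right h.sq

theorem act_z : Act D (D.a (2 * zq n)) 1 0 := (Act.of_a _).congr rfl (by linear_combination D.h4)

variable (H : Hyp F D) (h3 : ∀ y, F.IsConjElt y (D.a (2 * zq n)) → y ≠ D.a (2 * zq n) → ∃ r, Act D y (-1) (2 * r + 1))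
include H

theorem conj (h : Zs F D y) (hg : g ∈ S) : Zs F D (g * y * g⁻¹) :=
  ⟨isConjElt_trans (isConjElt_symm ((mor_conj F le_rfl hg).isConjElt h.mem)) h.1, fun e => h.2 (by
    rw [mul_inv_eq_iff_eq_mul, ← H.z_comm hg] at e; exact mul_left_cancel e)⟩

theorem cyc (hg : g ∈ S) (hx : x ∈ R) : ∃ k, g * x * g⁻¹ * x⁻¹ = D.a k := by
  obtain ⟨i, j, a⟩ := H.exists_act hg
  obtain ⟨k, rfl | rfl⟩ := (D.mem x).1 hx
  exacts [⟨_, by rw [a.1, D.a_inv, D.a_mul_a]⟩, ⟨_, by rw [a.2, D.b_mul_b_inv]⟩]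

include h3

theorem a_mul (h : Zs F D y) (k : ZMod (2 ^ n)) : Zs F D (D.a k * y) := by
  have ev : ∀ {y}, Zs F D y → ∀ m, Zs F D (D.a (2 * m) * y) := fun {y} h m => by
    obtain ⟨r, a⟩ := h3 y h.1 h.2
    have := conj H h (H.le (D.a_mem m))
    rwa [show D.a m * y * (D.a m)⁻¹ = D.a m * (y * D.a m * y⁻¹)⁻¹ * y by group, a.1, D.a_inv, D.a_mul_a,
      show m + -(-1 * m) = 2 * m by ring] at this
  obtain ⟨m, rfl | rfl⟩ := zm_even_or_odd k
  · exact ev h m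
  obtain ⟨r, a⟩ := h3 y h.1 h.2
  have := ev (conj H h (H.le (D.b_mem 0))) (m + r + 1)
  rwa [show D.b 0 * y * (D.b 0)⁻¹ = D.b 0 * (y * D.b 0 * y⁻¹)⁻¹ * y by group, a.2, D.b_mul_b_inv, ← mul_assoc, D.a_mul_a,
    show 2 * (m + r + 1) + (0 - (-1 * 0 + (2 * r + 1))) = 2 * m + 1 by ring] at this

theorem of_comm (hp : Zs F D p) (hq : Zs F D q) (c : p * q = q * p) : q = p ∨ q = D.a (2 * zq n) * p := by
  by_contra hn
  push Not at hn
  obtain ⟨α, hα, e⟩ := H.exists_al hp.1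
  have key : ∀ w ∈ cen S p, F.IsConjElt w (D.a (2 * zq n)) → w ≠ p → ∃ r, Act D (α w) (-1) (2 * r + 1) :=
    fun w hw h1 h2 => h3 _ (isConjElt_trans (isConjElt_symm (hα.isConjElt hw)) h1) fun e' =>
      h2 (hα.injOn hw (self_mem_cen hp.mem) (e'.trans e.symm))
  have hz := H.z_mem_cen hp.mem
  have hq' : q ∈ cen S p := mem_cen.2 ⟨hq.mem, c.symm⟩
  obtain ⟨_, a1⟩ := key _ hz (H.rz_z R.one_mem).isConjElt hp.2.symm
  obtain ⟨_, a2⟩ := key _ hq' hq.1 hn.1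
  obtain ⟨_, a3⟩ := key _ (mul_mem hz hq') (a_mul H h3 hq _).1 fun e' => hn.2 (by rw [← e', ← mul_assoc, z_mul_z, one_mul])
  rw [hα.homOn.map_mul hz hq'] at a3
  exact zm_two_ne_zero D.two_le (by linear_combination ((a1.mul a2).unique a3).1)

theorem of_act (hp : Zs F D p) (hq : Zs F D q) (a : Act D (p * q) 1 0) : q = p ∨ q = D.a (2 * zq n) * p := by
  obtain ⟨t, ht⟩ : ∃ t, t = p * q := ⟨_, rfl⟩
  have tS : t ∈ S := ht ▸ mul_mem hp.mem hq.mem
  have e1 : q = p * t := by rw [ht, ← mul_assoc, hp.sq, one_mul]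
  have e2 : ∀ k : ℕ, p * t ^ k = (t ^ k)⁻¹ * p := fun k => by
    rw [← mul_inv_eq_iff_eq_mul, ← conj_pow, ← inv_pow, ht, mul_inv_rev, hq.inv, ← mul_assoc, hp.sq, one_mul]
  have Z : ∀ k : ℕ, Zs F D (p * t ^ k) ∧ Zs F D (p * t ^ (k + 1)) := fun k => by
    induction k with
    | zero => exact ⟨by simpa using hp, by simpa [← e1] using hq⟩
    | succ k ih =>
      refine ⟨ih.2, ?_⟩
      have := conj H ih.1 (inv_mem tS)
      rwa [← mul_assoc, ← pow_one t, ← e2, pow_one, inv_inv, show p * t * t ^ k * t = p * t ^ (k + 1 + 1) by group] at this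
  obtain ⟨s, hs⟩ := IsPGroup.iff_orderOf.1 H.pS ⟨t, tS⟩
  rw [Subgroup.orderOf_mk] at hs
  rcases s with _ | s
  · exact .inl (by rw [e1, orderOf_eq_one_iff.1 hs, mul_one])
  have y1 : t ^ 2 ^ s * t ^ 2 ^ s = 1 := by rw [← pow_two, ← pow_mul, ← pow_succ, ← hs, pow_orderOf_eq_one]
  have y2 : t ^ 2 ^ s = D.a (2 * zq n) := by
    rcases of_comm H h3 hp (Z (2 ^ s)).1 (by
      rw [← mul_assoc, hp.sq, one_mul, e2, mul_assoc, hp.sq, mul_one, inv_eq_of_mul_eq_one_right y1]) with e | e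
    · exact absurd (mul_eq_left.1 e) (pow_ne_one_of_lt_orderOf (by positivity)
        (hs ▸ Nat.pow_lt_pow_right one_lt_two (by omega)))
    · exact mul_left_cancel (e.trans (H.z_comm hp.mem).symm)
  rcases s with _ | s
  · exact .inr (by rw [e1, ← H.z_comm hp.mem, ← y2]; simp)
  rw [pow_succ, pow_mul, pow_two] at y2
  have a0 : Act D (t ^ 2 ^ s) 1 0 := ((ht ▸ a).pow _).congr rfl (mul_zero _)
  obtain ⟨r, b⟩ := h3 p hp.1 hp.2
  have e3 : D.a (zq n) * (p * t ^ 2 ^ s) = D.a (zq n) * (t ^ 2 ^ s)⁻¹ * p := by rw [e2, mul_assoc]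
  have a1 : Act D (D.a (zq n) * (t ^ 2 ^ s)⁻¹) 1 0 := by
    rcases of_comm H h3 hp (a_mul H h3 (Z (2 ^ s)).1 (zq n)) (by
      calc p * (D.a (zq n) * (p * t ^ 2 ^ s)) = p * D.a (zq n) * p⁻¹ * (p * p) * t ^ 2 ^ s := by group
        _ = D.a (zq n) * (D.a (2 * zq n))⁻¹ * t ^ 2 ^ s := by
          rw [b.1, hp.sq, mul_one, D.a_inv, D.a_mul_a]; congr 2; ring
        _ = _ := by rw [e3, mul_assoc _ p, hp.sq, ← y2]; group) with e | e <;> rw [e3] at e
    exacts [mul_eq_right.1 e ▸ Act.one, mul_right_cancel e ▸ act_z]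
  have a2 := a1.mul a0
  rw [inv_mul_cancel_right] at a2
  exact absurd (by linear_combination -(a2.unique (Act.of_a _)).2) D.h2

theorem eq_mul (hp : Zs F D p) (hq : Zs F D q) : ∃ k, q = D.a k * p := by
  obtain ⟨r, a⟩ := h3 p hp.1 hp.2
  obtain ⟨r', a'⟩ := h3 q hq.1 hq.2
  rcases of_act H h3 (a_mul H h3 hp (r' - r)) hq ((((Act.of_a _).mul a).mul a').congr (by ring) (by ring)) with e | e
  exacts [⟨_, e⟩, ⟨_, by rw [e, ← mul_assoc, D.a_mul_a]⟩]

/-- Elements of `R` of order at least four stay in `R`. -/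
theorem map_mem (hf : Mor F Q f) (hx : x ∈ Q) (hR : x ∈ R) (h : x * x ≠ 1) : f x ∈ R := by
  obtain ⟨k, hk⟩ := exists_pow_eq_z (D := D) (mul_mem hR hR) h
  have hz : D.a (2 * zq n) ∈ Q := hk ▸ pow_mem (mul_mem hx hx) k
  refine H.ri Q f hf hz (by_contra fun e => ?_) x hx hR
  have c := isConjElt_symm (hf.isConjElt hz)
  obtain ⟨r, a⟩ := h3 _ c e
  have b := H.type_one c e (hf.mem (pow_mem hx k)) (by
    rw [← hf.homOn.map_mul (pow_mem hx k) (pow_mem hx k), ← hk, (Commute.refl x).mul_pow])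
  exact zm_two_ne_zero D.two_le (by linear_combination (b.unique a).1)

variable (hp : Zs F D p)
include hp

omit h3 in
theorem mem_P : g ∈ R ⊔ zpowers p ↔ g ∈ R ∨ g * p⁻¹ ∈ R :=
  CL.Inv.mem_sup_zpowers_iff (mem_normalizer_iff.2 fun x => ⟨H.conj_mem hp.mem, fun h => by
    simpa [mul_assoc] using H.conj_mem (inv_mem hp.mem) h⟩) (hp.sq ▸ R.one_mem) g

omit h3 in
theorem P_le : R ⊔ zpowers p ≤ S := sup_le H.le (zpowers_le.2 hp.mem)

theorem conj_mem_P (hy : F.IsConjElt y (D.a (2 * zq n))) : y ∈ R ⊔ zpowers p := by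
  by_cases e : y = D.a (2 * zq n)
  · exact mem_sup_left (e ▸ D.a_mem _)
  · obtain ⟨k, rfl⟩ := eq_mul H h3 hp ⟨hy, e⟩
    exact mul_mem_sup (D.a_mem k) (mem_zpowers p)

theorem map_R (hf : Mor F Q f) (hx : x ∈ Q) (hR : x ∈ R) : f x ∈ R ⊔ zpowers p := by
  by_cases h : x * x = 1
  · rcases D.quaternion_involution hR h with rfl | rfl
    exacts [by rw [hf.homOn.map_one]; exact one_mem _, conj_mem_P H h3 hp (isConjElt_symm (hf.isConjElt hx))]
  · exact mem_sup_left (map_mem H h3 hf hx hR h)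

theorem map_Zs (hf : Mor F Q f) (hx : x ∈ Q) (h : Zs F D x) : f x ∈ R ⊔ zpowers p :=
  conj_mem_P H h3 hp (isConjElt_trans (isConjElt_symm (hf.isConjElt hx)) h.1)

theorem cyc_P (hg : g ∈ S) (hx : x ∈ R ⊔ zpowers p) : ∃ k, g * x * g⁻¹ * x⁻¹ = D.a k := by
  rcases (mem_P H hp).1 hx with h | h
  · exact cyc H hg h
  obtain ⟨k, e⟩ := cyc H hg h
  obtain ⟨l, e'⟩ := eq_mul H h3 hp (conj H hp hg)
  obtain ⟨i, j, a⟩ := H.exists_act (H.le h)
  refine ⟨k + i * l, ?_⟩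
  rw [← D.a_mul_a, ← e, ← a.1, ← mul_inv_eq_iff_eq_mul.2 e']; group

theorem le_of_radical (hc : F.IsCentric A) (hr : F.IsRadical 2 A) (h1 : D.a 1 ∈ A) : R ⊔ zpowers p ≤ A := by
  have := H.fin
  have nP : ∀ g ∈ S, ∀ x ∈ R ⊔ zpowers p, g * x * g⁻¹ ∈ R ⊔ zpowers p := fun g hg x hx => by
    obtain ⟨k, e⟩ := cyc_P H h3 hp hg hx
    rw [mul_inv_eq_iff_eq_mul.1 e]
    exact mul_mem (mem_sup_left (D.a_mem k)) hx
  refine le_of_central_chain H.pS hc hr (P_le H hp) (fun g hg => mem_normalizer_iff.2 fun x => ⟨nP g hg x, fun h => by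
      simpa [mul_assoc] using nP _ (inv_mem hg) _ h⟩) (n + 1)
    (fun i => if i ≤ n then zpowers (D.a (2 ^ (n - i))) else S) (fun i _ f hf _ x hx => ?_) ?_
    (by rw [if_neg (by omega)]; exact P_le H hp) fun i hi => ?_
  · split_ifs
    · have h4 := H.a_one_pow_four
      obtain ⟨k, hk⟩ := eq_a_of_pow_four (D := D) (map_mem H h3 hf h1 (D.a_mem 1) fun e => h4 (by
        rw [show 4 = 2 * 2 from rfl, pow_mul, pow_two (D.a 1), e, one_pow])) fun e => h4 (hf.injOn (pow_mem h1 4) A.one_mem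
          (by rw [hf.homOn.map_pow h1, e, hf.homOn.map_one]))
      have hm : ∀ m, f (D.a m) = D.a (m * k) := fun m => by
        obtain ⟨m, rfl⟩ := zm_natCast_surj m
        rw [← D.a_pow, ← hk, ← hf.homOn.map_pow h1, D.a_pow, mul_one]
      simp only [D.mem_zpowers_a]
      rintro ⟨r, rfl⟩
      exact ⟨r * k, by rw [hm, mul_assoc]⟩
    · exact fun _ => hf.mem hx
  · simp only [Nat.zero_le, if_true, Nat.sub_zero, zm_pow_self, D.a_zero, zpowers_one_eq_bot]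
  · rw [if_pos (show i ≤ n by omega)]
    refine commutator_le.2 fun u hu v hv => D.mem_zpowers_a.2 ?_
    split_ifs at hu with h
    · obtain ⟨r, rfl⟩ := D.mem_zpowers_a.1 hu
      obtain ⟨l, j, a⟩ := H.exists_act (P_le H hp hv)
      obtain ⟨s, rfl⟩ := a.odd
      refine ⟨-s * r, ?_⟩
      rw [commutatorElement_def, mul_assoc, mul_assoc, ← mul_assoc v, D.a_inv, a.1, D.a_mul_a,
        show n - i = n - (i + 1) + 1 by omega]
      congr 1; ring
    · obtain ⟨k, e⟩ := cyc_P H h3 hp hu hv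
      exact ⟨k, by rw [show n - i = 0 by omega, pow_zero, one_mul, ← e, commutatorElement_def]⟩

theorem step (hA : A = S ∨ F.IsEssential 2 A) (hf : Mor F A f) (hy : y ∈ A) (hP : y ∈ R ⊔ zpowers p) :
    f y ∈ R ⊔ zpowers p := by
  have := H.fin
  rcases (mem_P H hp).1 hP with h | h
  · exact map_R H h3 hp hf hy h
  obtain ⟨k, e | e⟩ := (D.mem _).1 h <;> rw [mul_inv_eq_iff_eq_mul] at e <;> subst e
  · exact map_Zs H h3 hp hf hy (a_mul H h3 hp k)
  obtain ⟨r, a⟩ := h3 p hp.1 hp.2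
  have e1 : D.b k * p * (D.b k * p) = D.a (2 * (k - r - 1 + zq n) + 1) := by
    rw [show D.b k * p * (D.b k * p) = D.b k * (p * D.b k * p⁻¹) * (p * p) by group, a.2, hp.sq, mul_one, D.b_mul_b]
    congr 1; ring
  obtain ⟨w, hw⟩ := zm_odd_unit (k - r - 1 + zq n)
  obtain ⟨w, rfl⟩ := zm_natCast_surj w
  have h1 : D.a 1 ∈ A := by
    have := pow_mem (mul_mem hy hy) w
    rwa [e1, D.a_pow, show (w : ZMod (2 ^ n)) * (2 * (k - r - 1 + zq n) + 1) = 1 by linear_combination hw] at this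
  have le : R ⊔ zpowers p ≤ A := hA.elim (fun e => e ▸ P_le H hp) fun e =>
    le_of_radical H h3 hp e.1 (IsEssential.isRadical H.pS e) h1
  have b1 := le (mem_sup_left (D.b_mem k))
  have p1 := le (mem_sup_right (mem_zpowers p))
  rw [hf.homOn.map_mul b1 p1]
  exact mul_mem (map_R H h3 hp hf b1 (D.b_mem k)) (map_Zs H h3 hp hf p1 hp)

theorem quasiDihedral : IsQuasiDihedral ↥(R ⊔ zpowers p) := by
  obtain ⟨r, a⟩ := h3 p hp.1 hp.2
  have p1 := (Hyp.conj_facts hp.1).2.2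
  have hn := H.three
  have e1 : D.b 0 * p * (D.b 0 * p) = D.a (2 * (zq n - r - 1) + 1) := by
    rw [show D.b 0 * p * (D.b 0 * p) = D.b 0 * (p * D.b 0 * p⁻¹) * (p * p) by group, a.2, hp.sq, mul_one, D.b_mul_b]
    congr 1; ring
  have e2 : (D.b 0 * p) ^ 2 ^ n = D.a (2 * zq n) := by
    refine (congrArg ((D.b 0 * p) ^ ·) (show 2 ^ n = 2 * 2 ^ (n - 1) by rw [← pow_succ']; congr 1; omega)).trans ?_
    rw [pow_mul, pow_two, e1, D.a_pow, cast_half D.two_le]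
    congr 1; linear_combination (zq n - r - 1) * D.h4
  refine ⟨n + 1, by omega, ?_, ⟨D.b 0 * p, mul_mem_sup (D.b_mem 0) (mem_zpowers p)⟩, ⟨p, mem_sup_right (mem_zpowers p)⟩,
    ?_, ?_, Subtype.ext ?_⟩
  · rw [card_eq_two_mul_of_mem_iff (fun h => (D.quaternion_involution h hp.sq).elim p1 hp.2) fun g => mem_P H hp,
      D.card_eq, ← pow_succ']
  · rw [Subgroup.orderOf_mk]
    exact orderOf_eq_prime_pow (e2 ▸ z_ne_one) (by rw [pow_succ, pow_mul, e2, pow_two, z_mul_z])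
  · rw [Subgroup.orderOf_mk]
    exact orderOf_eq_prime (by rw [pow_two, hp.sq]) p1
  · show p * (D.b 0 * p) * p⁻¹ = (D.b 0 * p) ^ (2 ^ n - 1)
    refine mul_right_cancel (b := D.b 0 * p) ?_
    rw [← pow_succ, Nat.sub_add_cancel Nat.one_le_two_pow, e2,
      show p * (D.b 0 * p) * p⁻¹ * (D.b 0 * p) = p * (D.b 0 * D.b 0) * p by group, D.b_mul_self,
      show 0 * 0 + 2 * zq n = 2 * zq n by ring, H.z_comm hp.mem, mul_assoc, hp.sq, mul_one]

end Qd

theorem Hyp.qd (hH : Hyp F D)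
    (h3 : ∀ y, F.IsConjElt y (D.a (2 * zq n)) → y ≠ D.a (2 * zq n) → ∃ r, Act D y (-1) (2 * r + 1)) :
    ∃ P : Subgroup Ω, P ≤ S ∧ IsQuasiDihedral P ∧ F.StronglyClosed P := by
  have := hH.fin
  obtain ⟨p, hp⟩ := hH.nc
  exact ⟨_, Qd.P_le hH hp, Qd.quasiDihedral hH h3 hp, stronglyClosed_iff.2 ⟨Qd.P_le hH hp, fun Q f hf =>
    alperin_induction hH.pS hH.sat (fun f => ∀ x ∈ Q, x ∈ R ⊔ zpowers p → f x ∈ R ⊔ zpowers p)
      (fun f e x hx hP => (e x hx).symm ▸ hP)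
      (fun f g a A _ ih hA ha _ hfA e x hx hP => (e x hx).symm ▸ Qd.step hH h3 hp hA ha (hfA x hx) (ih x hx hP)) hf⟩⟩

end CL.WQ
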