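/-
Weakly closed quaternion subgroups: two consequences of Thompson's transfer lemma.
-/
import Cfsg.Agent.WQ.Defs

set_option autoImplicit false
set_option linter.style.haveILetI false

open Cfsg Cfsg.FusionSystem Subgroup CL.Inv CL.Grp CL.Fus
open scoped Pointwise

namespace CL.WQ

variable {Ω : Type*} [Group Ω] {S R T : Subgroup Ω} {F : FusionSystem S} {n : ℕ}

open MulAction CL.Fus.Tr in
/-- Thompson's transfer lemma for a homomorphism to an abelian group with one involution in the image. -/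
theorem thompson_hom [Finite S] (hS : IsPGroup 2 S) (hF : F.IsSaturated 2) {A : Type*} [CommGroup A]
    (lam : S →* A) (hA : ∀ x y : S, x * x = 1 → y * y = 1 → lam x ≠ 1 → lam y ≠ 1 → lam x = lam y) {i : Ω}
    (hi : i ∈ S) (hi2 : orderOf i = 2)
    (h : ∀ j : S, F.IsConjElt i j → F.IsFullyCentralized (zpowers (j : Ω)) → lam j ≠ 1) :
    i ∉ F.focalSubgroup := by
  classical
  intro hif
  obtain ⟨D, hD⟩ := exists_wreath hS hF
  obtain ⟨Q, hQ, hQc⟩ := exists_isConj_fullyCentralized F (Subgroup.zpowers_le.2 hi)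
  obtain ⟨f, hf, rfl⟩ := isConj_iff.1 hQ
  rw [hf.homOn.img_zpowers (Subgroup.mem_zpowers i)] at hQc
  let j : S := ⟨f i, hf.mem (Subgroup.mem_zpowers i)⟩
  have hj2 : j * j = 1 := Subtype.ext (by
    have := pow_orderOf_eq_one (f i)
    rwa [hf.orderOf_eq (Subgroup.mem_zpowers i), hi2, pow_two] at this)
  have h1 : tr D lam j = 1 := by
    rw [tr_invariant D lam hf ⟨i, hi⟩ j (Subgroup.mem_zpowers i) rfl]
    exact tr_eq_one_of_mem_focal D lam hif
  have hz : ∀ y : Subgroup.zpowers j, (y : S) = 1 ∨ (y : S) = j := by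
    rintro ⟨_, k, rfl⟩
    obtain ⟨m, rfl | rfl⟩ := Int.even_or_odd' k
    · left; simp [zpow_mul, pow_two, hj2]
    · right; simp [zpow_add, zpow_mul, pow_two, hj2]
  have h2 := prod_eq_pow D lam (Subgroup.zpowers j) 1 (Finset.univ.filter fun k => ¬ D.ι j • k = k)
    (fun y k hk => by
      rcases hz y with e | e
      · rw [e, map_one, one_smul]; exact hk
      · rw [e, Finset.mem_filter] at *
        exact ⟨Finset.mem_univ _, fun h => hk.2 (MulAction.injective (D.ι j) h)⟩)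
    (fun k hk y hy => by
      rcases hz y with e | e
      · rw [e, map_one, D.c_one, map_one]; rfl
      · rw [e] at hy; exact absurd hy (Finset.mem_filter.1 hk).2) ⟨j, Subgroup.mem_zpowers j⟩
  rw [MonoidHom.one_apply, one_pow] at h2
  rw [tr_apply, ← Finset.prod_filter_mul_prod_filter_not _ (fun k => D.ι j • k = k), h2, mul_one,
    ← Finset.prod_filter_mul_prod_filter_not _ (fun k => lam (D.c (D.ι j) k) = 1),
    Finset.prod_eq_one fun k hk => (Finset.mem_filter.1 hk).2, one_mul, Finset.filter_filter] at h1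
  have ha1 : lam j ≠ 1 := h j (hf.isConjElt (Subgroup.mem_zpowers i)) hQc
  have ha : ∀ k : D.I, D.ι j • k = k → lam (D.c (D.ι j) k) ≠ 1 → lam (D.c (D.ι j) k) = lam j := fun k hk hk' => by
    refine hA _ _ ?_ hj2 hk' ha1
    have := D.c_mul (D.ι j) (D.ι j) k
    rwa [← map_mul, hj2, map_one, D.c_one, hk, eq_comm] at this
  rw [Finset.prod_congr rfl fun k hk => ha _ (Finset.mem_filter.1 hk).2.1 (Finset.mem_filter.1 hk).2.2,
    Finset.prod_const] at h1
  have ho : orderOf (lam j) = 2 := orderOf_eq_prime (by rw [pow_two, ← map_mul, hj2, map_one]) ha1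
  have h3 := orderOf_dvd_of_pow_eq_one h1
  rw [ho] at h3
  let C : Subgroup S := (centralizerIn S (Subgroup.zpowers (f i))).subgroupOf S
  have hC : ∀ c : C, D.ι c * D.ι j * (D.ι c)⁻¹ = D.ι j := fun c => by
    rw [← map_inv, ← map_mul, ← map_mul]
    congr 1
    exact Subtype.ext (conj_eq_of_mem_centralizer (mem_centralizerIn.1 c.2).2 (Subgroup.mem_zpowers _))
  let X := {k : D.I // D.ι j • k = k ∧ ¬ lam (D.c (D.ι j) k) = 1}
  letI : MulAction C D.I := MulAction.compHom _ (D.ι.comp C.subtype)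
  letI : MulAction C X :=
    { smul := fun c k => ⟨D.ι c • k.1, (D.φ_conj (hC c) k.2.1).1, by
        have e1 := D.φ_conj (hC c) k.2.1
        have e2 : D.c (D.ι j) (D.ι c • k.1) = D.c (D.ι c) k.1 * D.c (D.ι j) k.1 * (D.c (D.ι c) k.1)⁻¹ :=
          Subtype.ext (by rw [← D.φ_apply e1.1, e1.2, D.φ_apply k.2.1]; rfl)
        rw [e2, map_mul, map_mul, map_inv, mul_inv_cancel_comm]
        exact k.2.2⟩
      one_smul := fun k => Subtype.ext (by show D.ι 1 • k.1 = k.1; rw [map_one, one_smul])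
      mul_smul := fun a b k => Subtype.ext (by
        show D.ι (a * b) • k.1 = D.ι a • D.ι b • k.1
        rw [map_mul, mul_smul]) }
  have hCp : IsPGroup 2 C := hS.to_subgroup C
  have hjC : j ∈ C := mem_centralizerIn'.2 ⟨j.2, by
    rintro _ ⟨k, rfl⟩
    exact (Commute.zpow_left (Commute.refl (f i)) k).eq⟩
  have e : Nat.card (fixedPoints C X) = Nat.card (fixedPoints C D.I) := by
    refine Nat.card_congr ⟨fun k => ⟨k.1.1, fun c => congrArg Subtype.val (k.2 c)⟩,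
      fun k => ⟨⟨k.1, k.2 ⟨j, hjC⟩, fun hk => ?_⟩, fun c => Subtype.ext (k.2 c)⟩, fun _ => rfl, fun _ => rfl⟩
    have hle : centralizerIn S (Subgroup.zpowers (f i)) ≤ D.stab k.1 := fun x hx =>
      D.mem_stab.2 ⟨hx.1, k.2 ⟨⟨x, hx.1⟩, hx⟩⟩
    have hjs : f i ∈ D.stab k.1 := hle hjC
    have h4 := (D.mor_φ k.1).fullyCentralized_img (Subgroup.zpowers_le.2 hjs) hle hQc
    rw [(D.mor_φ k.1).homOn.img_zpowers hjs] at h4
    have h5 := isConjElt_trans (hf.isConjElt (Subgroup.mem_zpowers i)) ((D.mor_φ k.1).isConjElt hjs)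
    have h6 : D.φ k.1 (f i) = D.c (D.ι j) k.1 := D.φ_apply (s := j) (k.2 ⟨j, hjC⟩)
    rw [h6] at h4 h5
    exact h _ h5 h4 hk
  apply hD
  rw [(hCp.card_modEq_card_fixedPoints D.I).dvd_iff dvd_rfl, ← e,
    ← (hCp.card_modEq_card_fixedPoints X).dvd_iff dvd_rfl, Nat.card_eq_fintype_card, Fintype.card_subtype]
  exact h3

theorem GT.th_sq (G : GT S n) {g : Ω} (hg : g ∈ S) : ∃ i j, g * g = G.D.u i j := by
  obtain ⟨i, j, rfl | rfl | rfl | rfl⟩ := (G.mem g).1 hg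
  · exact ⟨_, _, G.D.u_mul_u _ _ _ _⟩
  · exact ⟨_, _, G.D.v_mul_v _ _ _ _⟩
  · exact ⟨_, _, by rw [← mul_assoc, G.uh_mul_u, G.mul_h_h]⟩
  · exact ⟨_, _, by rw [← mul_assoc, G.vh_mul_v, G.mul_h_h]⟩

theorem GT.th_core (G : GT S n) (hF : F.IsSaturated 2) (foc : F.focalSubgroup = S) (s : G.Std F)
    {a b : ZMod (2 ^ n)} {t q : Ω} (ha : 2 * a ≠ 0)
    (hS : ∀ g ∈ S, g * G.D.u a b = G.D.u a b * g ∨ g * G.D.u a b = G.D.u (-a) (-b) * g)
    (ht : t ∈ S) (htt : t * t = 1) (hti : t * G.D.u a b = G.D.u (-a) (-b) * t) (hq : q ∈ S) (hqt : q * t = t * q)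
    (hqq : q * q = G.qq.z)
    (hinv : ∀ P f, Mor F P f → G.qq.z ∈ P → f G.qq.z = G.qq.z → ∀ x ∈ P,
      (f x ∈ cen S (G.D.u a b) ↔ x ∈ cen S (G.D.u a b))) : False := by
  haveI := G.qq.finite
  have hne : ∀ g, g * G.D.u a b = G.D.u (-a) (-b) * g → g ∉ cen S (G.D.u a b) := fun g e hg => by
    rw [(mem_cen.1 hg).2, mul_left_inj, G.D.u_eq_iff] at e
    exact ha (by linear_combination e.1)
  have htK := hne t hti
  have ht1 : t ≠ 1 := fun e => htK (e ▸ one_mem _)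
  have hti' : t⁻¹ = t := inv_eq_of_mul_eq_one_right htt
  have hidx : (cen S (G.D.u a b)).relIndex S = 2 := relIndex_eq_two_of_mem_iff htK fun g => by
    rw [hti']
    refine ⟨fun hg => (hS g hg).imp (fun e => mem_cen.2 ⟨hg, e⟩) fun e => mem_cen.2 ⟨mul_mem hg ht, ?_⟩, ?_⟩
    · have e' : g * G.D.u (-a) (-b) = G.D.u a b * g := by
        rw [← G.D.u_inv] at e ⊢
        rw [mul_inv_eq_iff_eq_mul, mul_assoc, e, mul_inv_cancel_left]
      rw [mul_assoc, hti, ← mul_assoc, e', mul_assoc]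
    · rintro (h | h)
      · exact cen_le _ _ h
      · simpa [mul_assoc, htt] using mul_mem (cen_le _ _ h) ht
  refine Tr.thompson_transfer G.qq.isPGroup hF hidx ht (orderOf_two_of_mul_self htt ht1)
    (fun k hk hfc hkK => ?_) (foc.symm ▸ ht)
  obtain ⟨β, hβ, rfl⟩ := exists_mor_cen G.qq.isPGroup hF hk hfc
  have hzS : G.qq.z ∈ S := G.qq_z ▸ G.u_mem _ _
  have hz : G.qq.z ∈ cen S t := mem_cen.2 ⟨hzS, (G.qq.z_comm ht).symm⟩
  have htc : t ∈ cen S t := self_mem_cen ht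
  have hqc : q ∈ cen S t := mem_cen.2 ⟨hq, hqt⟩
  obtain ⟨i, j, hij⟩ := G.th_sq (hβ.mem hqc)
  rw [← hβ.homOn.map_mul hqc hqc, hqq] at hij
  have ho : orderOf (G.D.u i j) = 2 := by rw [← hij, hβ.orderOf_eq hz, G.qq_z, G.D.orderOf_z]
  have hc : G.D.u i j * β t = β t * G.D.u i j := by
    rw [← hij, ← hβ.homOn.map_mul hz htc, ← hβ.homOn.map_mul htc hz, G.qq.z_comm ht]
  obtain ⟨α, hα, hαu, hαh⟩ := s
  have hM : ∀ i j, G.D.u i j ∈ G.M := fun i j => G.mem_M.2 ⟨i, j, Or.inl rfl⟩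
  have hK : ∀ i j, G.D.u i j ∈ cen S (G.D.u a b) := fun i j => mem_cen.2 ⟨G.u_mem i j, G.D.u_comm_u _ _ _ _⟩
  have key : i ≠ j → i + j ≠ 0 → ∀ γ, Mor F G.M γ → γ (G.D.u i j) = G.qq.z →
      (∀ k l, ∃ k' l', γ (G.D.u k l) = G.D.u k' l') → False := fun h1 h2 γ hγ e hu => by
    obtain ⟨k, l, hk | hk | hk | hk⟩ := (G.mem _).1 (hβ.mem htc)
    · have hP : zpowers G.qq.z ⊔ zpowers t ≤ cen S t := sup_le (zpowers_le.2 hz) (zpowers_le.2 htc)
      have hβ' := hβ.mono hP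
      have hz' : G.qq.z ∈ zpowers G.qq.z ⊔ zpowers t := mem_sup_left (mem_zpowers _)
      have ht' : t ∈ zpowers G.qq.z ⊔ zpowers t := mem_sup_right (mem_zpowers _)
      have hle : img β (zpowers G.qq.z ⊔ zpowers t) ≤ G.M := by
        rw [hβ'.homOn.img_sup, hβ.homOn.img_zpowers hz, hβ.homOn.img_zpowers htc, hij, hk]
        exact sup_le (zpowers_le.2 (hM _ _)) (zpowers_le.2 (hM _ _))
      refine htK ((hinv _ _ (hβ'.comp_img hγ hle) hz' (by simp only [hij, e]) t ht').1 ?_)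
      obtain ⟨k', l', e'⟩ := hu k l
      simp only [hk, e']
      exact hK _ _
    · rw [hk] at hc
      exact h1 (G.D.u_comm_v hc)
    · refine hne _ ?_ hkK
      rw [hk, G.uh_mul_u, ← mul_assoc, G.D.u_mul_u]; congr 2 <;> ring
    · rw [hk, ← mul_assoc, G.D.u_mul_v, G.vh_mul_u, mul_left_inj, G.D.v_eq_iff] at hc
      exact h2 (by linear_combination hc.1)
  have h2 := G.D.h2
  have h4 := G.D.h4
  obtain ⟨rfl | rfl, rfl | rfl⟩ := G.D.u_mul_self_cases (mul_self_of_orderOf_two ho)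
  · rw [G.D.u_zero, orderOf_one] at ho
    exact absurd ho (by decide)
  · refine key h2.symm (by rwa [zero_add]) _ (hα.comp hα fun x hx => ?_) ?_ fun k l => ⟨_, _, by
      simp only [hαu]; rfl⟩
    · obtain ⟨k, l, rfl | rfl⟩ := G.mem_M.1 hx
      · rw [hαu]; exact hM _ _
      · rw [hα.homOn.map_mul (hM _ _) (G.mem_M.2 ⟨0, 0, Or.inr (by rw [G.D.u_zero, one_mul])⟩), hαu, hαh]
        exact G.mem_M.2 ⟨_, _, Or.inr rfl⟩
    · simp only [hαu, G.qq_z]
      congr 1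
      · ring
      · linear_combination -h4
  · refine key h2 (by rwa [add_zero]) _ hα ?_ fun k l => ⟨_, _, hαu k l⟩
    rw [hαu, G.qq_z]
    congr 1
    linear_combination -h4
  · exact htK ((hinv _ _ hβ hz (hij.trans G.qq_z.symm) t htc).1 hkK)

/-- The centralizers of `u 1 (± 1)` are not invariant under the maps fixing the central involution. -/
theorem GT.not_inv (G : GT S n) (hF : F.IsSaturated 2) (foc : F.focalSubgroup = S) (s : G.Std F) {c : Ω}
    (hc : c = G.D.u 1 (-1) ∨ c = G.D.u 1 1)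
    (hinv : ∀ P f, Mor F P f → G.qq.z ∈ P → f G.qq.z = G.qq.z → ∀ x ∈ P, (f x ∈ cen S c ↔ x ∈ cen S c)) :
    False := by
  have h2 : (2 : ZMod (2 ^ n)) * 1 ≠ 0 := by rw [mul_one]; exact zm_two_ne_zero G.D.two_le
  have h4 := G.D.h4
  rcases hc with rfl | rfl
  · refine G.th_core hF foc s (t := G.D.v 0 0) (q := G.D.u (zq n) (zq n)) h2 (fun g hg => ?_) (G.v_mem _ _)
      (by rw [G.D.v_mul_self, add_zero, G.D.u_zero]) (by rw [G.D.v_mul_u, G.D.u_mul_v]; congr 1 <;> ring)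
      (G.u_mem _ _) (G.D.central_comm (G.D.v_mem _ _) _).symm (by rw [G.D.u_mul_u, G.qq_z, two_mul]) hinv
    obtain ⟨i, j, rfl | rfl | rfl | rfl⟩ := (G.mem g).1 hg
    · exact Or.inl (G.D.u_comm_u _ _ _ _)
    · right; rw [G.D.v_mul_u, G.D.u_mul_v]; congr 1 <;> ring
    · right; rw [G.uh_mul_u, ← mul_assoc, G.D.u_mul_u]; congr 2 <;> ring
    · left; rw [G.vh_mul_u, ← mul_assoc, G.D.u_mul_v]; congr 2 <;> ring
  · refine G.th_core hF foc s (t := G.D.v 0 0 * G.h) (q := G.D.u (zq n) (-zq n)) h2 (fun g hg => ?_)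
      (mul_mem (G.v_mem _ _) G.h_mem) (by rw [← mul_assoc, G.vh_mul_v, G.mul_h_h, sub_zero, G.D.u_zero])
      (by rw [G.vh_mul_u, ← mul_assoc, G.D.u_mul_v]; congr 2 <;> ring) (G.u_mem _ _)
      (by rw [G.vh_mul_u, ← mul_assoc, G.D.u_mul_v]; congr 2 <;> ring) ?_ hinv
    · obtain ⟨i, j, rfl | rfl | rfl | rfl⟩ := (G.mem g).1 hg
      · exact Or.inl (G.D.u_comm_u _ _ _ _)
      · exact Or.inl (G.D.central_comm (G.D.v_mem _ _) _)
      · right; rw [G.uh_mul_u, ← mul_assoc, G.D.u_mul_u]; congr 2 <;> ring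
      · right; rw [G.vh_mul_u, ← mul_assoc, G.D.u_mul_v]; congr 2 <;> ring
    · rw [G.D.u_mul_u, G.qq_z]
      congr 1
      · ring
      · linear_combination -h4

end CL.WQ
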