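/-
Weakly closed quaternion subgroups: the wreathed subgroup generated by `R` and a cyclic conjugate.
-/
import Cfsg.Agent.WQ.Base

set_option autoImplicit false

open Cfsg Cfsg.FusionSystem Subgroup CL.Inv CL.Grp CL.Fus
open scoped Pointwise

namespace CL.WQ

variable {Ω : Type*} [Group Ω] {S R P : Subgroup Ω} {F : FusionSystem S} {n : ℕ} {D : MC R n 0 (2 * zq n)}
  {g x y d : Ω} {i j : ZMod (2 ^ n)} {f : Ω → Ω}

/-- The wreathed subgroup `K = ⟨R, d⟩`. -/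
structure WB (F : FusionSystem S) (D : MC R n 0 (2 * zq n)) where
  K : Subgroup Ω
  W : WR K n
  K_le : K ≤ S
  a_eq : ∀ i, D.a i = W.u i (-i)
  b_eq : ∀ i, D.b i = W.v i (2 * zq n - i)
  act : ∀ i j, Act D (W.u i j) 1 (i - j)
  rz : Rz F D (W.u (2 * zq n) 0) (W.u 1 0)

/-- `C_T(c)` is cyclic. -/
def WB.Cyc (B : WB F D) : Prop :=
  ∀ g ∈ S, Act D g 1 0 → g * B.W.u (zq n) (zq n) = B.W.u (zq n) (zq n) * g → ∃ m, g = B.W.u m m

/-- `⟨c⟩` is normal. -/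
def WB.Nrm (B : WB F D) : Prop :=
  ∀ g ∈ S, g * B.W.u (zq n) (zq n) * g⁻¹ = B.W.u (zq n) (zq n) ∨
    g * B.W.u (zq n) (zq n) * g⁻¹ = B.W.u (-zq n) (-zq n)

/-- Wreathed coordinates from a homomorphism `u` and an involution `w` exchanging the coordinates. -/
theorem exists_WR (hn : 2 ≤ n) (u : ZMod (2 ^ n) → ZMod (2 ^ n) → Ω) (w : Ω)
    (hu : ∀ i j k l, u i j * u k l = u (i + k) (j + l)) (hw : w * w = 1) (hwu : ∀ i j, w * u i j = u j i * w)
    (hi : ∀ i j k l, u i j = u k l → i = k ∧ j = l) (hne : ∀ i j k l, u i j ≠ u k l * w) :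
    ∃ (K : Subgroup Ω) (W : WR K n), (∀ i j, W.u i j = u i j) ∧ ∀ i j, W.v i j = u i j * w := by
  have h0 : u 0 0 = 1 := mul_left_cancel (a := u 0 0) (by rw [hu, add_zero, mul_one])
  have h1 : ∀ i j k l, u i j * (u k l * w) = u (i + k) (j + l) * w := fun i j k l => by rw [← mul_assoc, hu]
  have h2 : ∀ i j k l, u i j * w * u k l = u (i + l) (j + k) * w := fun i j k l => by rw [mul_assoc, hwu, h1]
  have h3 : ∀ i j k l, u i j * w * (u k l * w) = u (i + l) (j + k) := fun i j k l => by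
    rw [← mul_assoc, h2, mul_assoc, hw, mul_one]
  let K : Subgroup Ω :=
    { carrier := {g | ∃ i j, g = u i j ∨ g = u i j * w}
      one_mem' := ⟨0, 0, Or.inl h0.symm⟩
      mul_mem' := by
        rintro _ _ ⟨i, j, rfl | rfl⟩ ⟨k, l, rfl | rfl⟩
        exacts [⟨_, _, Or.inl (hu _ _ _ _)⟩, ⟨_, _, Or.inr (h1 _ _ _ _)⟩, ⟨_, _, Or.inr (h2 _ _ _ _)⟩,
          ⟨_, _, Or.inl (h3 _ _ _ _)⟩]
      inv_mem' := by
        rintro _ ⟨i, j, rfl | rfl⟩
        · exact ⟨-i, -j, Or.inl (inv_eq_of_mul_eq_one_right (by rw [hu, add_neg_cancel, add_neg_cancel, h0]))⟩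
        · exact ⟨-j, -i, Or.inr (inv_eq_of_mul_eq_one_right (by rw [h3, add_neg_cancel, add_neg_cancel, h0]))⟩ }
  exact ⟨K, ⟨u, fun i j => u i j * w, hn, hu, h1, h2, h3, hi, hne, fun _ => Iff.rfl⟩, fun _ _ => rfl, fun _ _ => rfl⟩

theorem Big.ne_z (h : Big F D d) : d ^ 2 ^ (n - 1) ≠ D.a (2 * zq n) := fun e => D.h2 (by
  have := ((e ▸ h.act.pow _).unique (Act.of_a _)).2
  rw [cast_half D.two_le] at this
  linear_combination this + D.h4)

theorem Hyp.exists_WB (H : Hyp F D) (h : Big F D d) : Nonempty (WB F D) := by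
  have hadd := CL.SL2.pow_val_add h.pow
  have hc : ∀ (m : ℕ) k, D.a k * d ^ m = d ^ m * D.a k := fun m k => ((h.act.pow m).comm_a.2 (one_mul _)).symm
  obtain ⟨u, ud⟩ : ∃ u : ZMod (2 ^ n) → ZMod (2 ^ n) → Ω, ∀ i j, u i j = d ^ (i + j).val * D.a (-j) :=
    ⟨_, fun _ _ => rfl⟩
  have hu : ∀ i j k l, u i j * u k l = u (i + k) (j + l) := fun i j k l => by
    simp only [ud]
    rw [mul_assoc, ← mul_assoc (D.a _), hc, mul_assoc, D.a_mul_a, ← mul_assoc, ← hadd]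
    congr 2 <;> ring
  have ha : ∀ i j, Act D (u i j) 1 (i - j) := fun i j => ud i j ▸
    ((h.act.pow _).mul (Act.of_a _)).congr (one_mul _) (by rw [ZMod.natCast_zmod_val]; ring)
  have hb : ∀ m : ℕ, D.b 0 * d ^ m = D.a (-m) * d ^ m * D.b 0 := fun m => by
    rw [mul_assoc, mul_inv_eq_iff_eq_mul.1 ((h.act.pow m).2 0), ← mul_assoc, D.a_mul_b]; congr 2; ring
  have hs : ∀ i j, D.b 0 * u i j = u j i * D.b 0 := fun i j => by
    simp only [ud]
    rw [← mul_assoc, hb, hc, mul_assoc, mul_assoc, mul_assoc, D.b_mul_a, D.a_mul_b, D.a_mul_b, ZMod.natCast_zmod_val,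
      add_comm j i]
    congr 2; ring
  have hz : ∀ i, u i (-i) = D.a i := fun i => by simp [ud]
  obtain ⟨K, W, e1, e2⟩ := exists_WR D.two_le u (u 0 (2 * zq n) * D.b 0) hu (by
      rw [mul_assoc, ← mul_assoc (D.b 0), hs, mul_assoc, D.b_mul_self, ← hz, hu, hu, ← D.a_zero, ← hz]
      congr 1
      · linear_combination D.h4
      · ring)
    (fun i j => by rw [mul_assoc, hs, ← mul_assoc, ← mul_assoc, hu, hu, add_comm j, add_comm i])
    (fun i j k l e => by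
      have h1 := ((e ▸ ha i j).unique (ha k l)).2
      have h2 : u (i - k) (j - l) = 1 := mul_right_cancel (b := u k l) (by
        rw [hu, sub_add_cancel, sub_add_cancel, one_mul, e])
      have h3 := eq_inv_of_mul_eq_one_left (ud _ _ ▸ h2)
      have h4 := H.rz_eq_one (h.rz.pow (i - k + (j - l)).val) h.ne_z (Or.inr (h3 ▸ inv_mem (D.a_mem _)))
      rw [h4, eq_comm, inv_eq_one, D.a_eq_one_iff] at h3
      exact ⟨by linear_combination h1 - h3, by linear_combination -h3⟩)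
    fun i j k l e => zm_two_ne_zero D.two_le (by
      have := ((e ▸ ha i j).unique ((ha k l).mul ((ha _ _).mul (Act.of_b 0)))).1
      linear_combination this)
  have hS : ∀ i j, u i j ∈ S := fun i j => ud i j ▸ S.mul_mem (pow_mem h.mem _) (H.le (D.a_mem _))
  have h1 : u 1 0 = d := by
    have : Fact (1 < 2 ^ n) := ⟨Nat.one_lt_two_pow (by have := H.three; omega)⟩
    simp [ud, D.a_zero, ZMod.val_one]
  refine ⟨K, W, fun g hg => ?_, fun i => by rw [e1, hz], fun i => ?_, fun i j => e1 i j ▸ ha i j, ?_⟩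
  · obtain ⟨i, j, rfl | rfl⟩ := (W.mem g).1 hg
    exacts [e1 i j ▸ hS i j, e2 i j ▸ S.mul_mem (hS i j) (S.mul_mem (hS _ _) (H.le (D.b_mem 0)))]
  · rw [e2, ← mul_assoc, hu, ← add_zero i, ← D.a_mul_b, ← hz]
    congr 2
    · ring
    · linear_combination -D.h4
  · have h2 := W.u_pow 1 0 (2 ^ (n - 1))
    rw [cast_half D.two_le, mul_one, mul_zero] at h2
    rw [← h2, e1, h1]
    exact h.rz

namespace WB

variable (B : WB F D)

theorem u_mem (i j : ZMod (2 ^ n)) : B.W.u i j ∈ S := B.K_le (B.W.u_mem i j)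

theorem v_mem (i j : ZMod (2 ^ n)) : B.W.v i j ∈ S := B.K_le (B.W.v_mem i j)

theorem z_eq : D.a (2 * zq n) = B.W.u (2 * zq n) (2 * zq n) := by
  rw [B.a_eq]; congr 1; linear_combination -D.h4

theorem z1_ne : B.W.u (2 * zq n) 0 ≠ D.a (2 * zq n) := B.z_eq ▸ B.W.x_ne_z

theorem z2_ne : B.W.u 0 (2 * zq n) ≠ D.a (2 * zq n) := fun e => D.h2 (B.W.u_eq_iff.1 (e.trans B.z_eq)).1.symm

theorem rz1 (i : ZMod (2 ^ n)) : Rz F D (B.W.u (2 * zq n) 0) (B.W.u i 0) := by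
  simpa only [B.W.u_pow, ZMod.natCast_zmod_val, mul_one, mul_zero] using B.rz.pow i.val

theorem rz2 (i : ZMod (2 ^ n)) : Rz F D (B.W.u 0 (2 * zq n)) (B.W.u 0 i) := by
  simpa only [B.W.conj_v_u] using (B.rz1 i).map (mor_conj F le_rfl (B.v_mem 0 0)) (B.u_mem _ _) (B.u_mem _ _)

theorem eq_of_rz1 (H : Hyp F D) (h : Rz F D (B.W.u (2 * zq n) 0) x) : ∃ m, x = B.W.u m 0 := by
  obtain ⟨j, a⟩ := H.rz_act_one h B.z1_ne (B.act _ _)
  refine ⟨j, ?_⟩
  rw [← mul_inv_eq_one, B.W.u_inv, neg_zero]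
  exact H.rz_eq_one (H.rz_mul h (B.rz1 _)) B.z1_ne (Or.inl ((a.mul (B.act _ _)).congr (one_mul _) (by ring)))

theorem eq_of_rz2 (H : Hyp F D) (h : Rz F D (B.W.u 0 (2 * zq n)) x) : ∃ m, x = B.W.u 0 m := by
  obtain ⟨j, a⟩ := H.rz_act_one h B.z2_ne (B.act _ _)
  refine ⟨-j, ?_⟩
  rw [← mul_inv_eq_one, B.W.u_inv, neg_zero]
  exact H.rz_eq_one (H.rz_mul h (B.rz2 _)) B.z2_ne (Or.inl ((a.mul (B.act _ _)).congr (one_mul _) (by ring)))

end WB

end CL.WQ
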