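/-
Weakly closed quaternion subgroups: `C_T(c)` is cyclic and `⟨c⟩` is normal.
-/
import Cfsg.Agent.WQ.WB

set_option autoImplicit false

open Cfsg Cfsg.FusionSystem Subgroup CL.Inv CL.Grp CL.Fus
open scoped Pointwise

namespace CL.WQ

variable {Ω : Type*} [Group Ω] {S R P : Subgroup Ω} {F : FusionSystem S} {n : ℕ} {D : MC R n 0 (2 * zq n)}
  {g x y d : Ω} {i j : ZMod (2 ^ n)} {α : Ω → Ω}

namespace WB

variable (B : WB F D)

theorem w1_u_mem (i j : ZMod (2 ^ n)) : B.W.u i j ∈ cen S (B.W.u (2 * zq n) 0) :=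
  mem_cen.2 ⟨B.u_mem i j, B.W.u_comm_u _ _ _ _⟩

theorem w1_a_mem (i : ZMod (2 ^ n)) : D.a i ∈ cen S (B.W.u (2 * zq n) 0) := B.a_eq i ▸ B.w1_u_mem _ _

theorem w1_mem (hg : g ∈ S) (a : Act D g 1 0) (hc : g * B.W.u (zq n) (zq n) = B.W.u (zq n) (zq n) * g) :
    g ∈ cen S (B.W.u (2 * zq n) 0) := by
  have e : B.W.u (2 * zq n) 0 = D.a (zq n) * B.W.u (zq n) (zq n) := by
    rw [B.a_eq, B.W.u_mul_u]; congr 1 <;> ring
  refine mem_cen.2 ⟨hg, ?_⟩
  rw [e, ← mul_assoc, a.comm (D.a_mem _), mul_assoc, hc, mul_assoc]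

theorem w1_act (hH : Hyp F D) (hα : Mor F (cen S (B.W.u (2 * zq n) 0)) α) (e : α (B.W.u (2 * zq n) 0) = D.a (2 * zq n))
    (hg : g ∈ cen S (B.W.u (2 * zq n) 0)) (a : Act D g 1 0) : ∃ j, Act D (α g) 1 j := by
  have h1 := B.w1_u_mem 1 0
  have h2 := hH.rz_comm B.rz B.z1_ne hg (Or.inl a)
  obtain ⟨k, hk⟩ := eq_a_of_pow_four (D := D) (hH.rz_all B.rz hα (B.w1_u_mem _ _) h1 e) fun e' => by
    rw [← hα.homOn.map_pow h1, ← hα.homOn.map_one] at e'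
    have := hα.injOn (pow_mem h1 4) (one_mem _) e'
    rw [B.W.u_pow, B.W.u_eq_one_iff] at this
    exact zm_four_ne_zero hH.three (by simpa using this.1)
  obtain ⟨r, rfl⟩ := odd_of_half_ne (i := k) D.two_le fun e' => D.h2 (by
    have h3 := hα.homOn.map_pow h1 (2 ^ (n - 1))
    rw [hk, D.a_pow, B.W.u_pow, cast_half D.two_le, mul_one, mul_zero, e, D.a_eq_iff] at h3
    linear_combination h3 + e')
  obtain ⟨i, j, b⟩ := hH.exists_act (hα.mem hg)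
  have h3 := b.comm_a.1 (by rw [← hk, ← hα.homOn.map_mul hg h1, ← h2, hα.homOn.map_mul h1 hg])
  exact ⟨j, b.congr (sub_eq_zero.1 (eq_zero_of_odd_mul (r := r) (by linear_combination h3))) rfl⟩

theorem w1_inv (hH : Hyp F D) (hα : Mor F (cen S (B.W.u (2 * zq n) 0)) α) (e : α (B.W.u (2 * zq n) 0) = D.a (2 * zq n))
    (hy : y ∈ cen S (B.W.u (2 * zq n) 0)) (a : Act D y 1 0) (b : Act D (α y) 1 0) (h2 : y * y = 1) : y = 1 := by
  by_contra h1
  have := hH.fin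
  have hS : y ∈ S := hy.1
  obtain ⟨Q, hQ, hc⟩ := exists_isConj_fullyCentralized F (zpowers_le.2 hS)
  obtain ⟨f, hf, rfl⟩ := isConj_iff.1 hQ
  rw [hf.homOn.img_zpowers (mem_zpowers y)] at hc
  obtain ⟨β, hβ, e1⟩ := exists_mor_cen hH.pS hH.sat (hf.isConjElt (mem_zpowers y)) hc
  obtain ⟨β', hβ', e2⟩ := exists_mor_cen hH.pS hH.sat
    (isConjElt_trans (isConjElt_symm (hα.isConjElt hy)) (hf.isConjElt (mem_zpowers y))) hc
  have r1 : R ≤ cen S y := fun x hx => mem_cen.2 ⟨hH.le hx, (a.comm hx).symm⟩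
  have r2 : R ≤ cen S (α y) := fun x hx => mem_cen.2 ⟨hH.le hx, (b.comm hx).symm⟩
  have hy' := self_mem_cen hS
  have ri : RI F R (β y) := by
    refine hH.fix _ (hβ.mem hy') (by rw [← hβ.homOn.map_mul hy' hy', h2, hβ.homOn.map_one])
      (fun e' => h1 (hβ.injOn hy' (one_mem _) (e'.trans hβ.homOn.map_one.symm))) fun x hx => ?_
    rw [← hβ.img_eq_self r1 (hH.wc β (hβ.mono r1))] at hx
    obtain ⟨t, ht, rfl⟩ := (hβ.mem_img' r1).1 hx
    rw [← hβ.homOn.map_mul hy' (r1 ht), a.comm ht, hβ.homOn.map_mul (r1 ht) hy']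
  have hm : ∀ t ∈ cen S y ⊓ cen S (B.W.u (2 * zq n) 0), α t ∈ cen S (α y) := fun t ht =>
    mem_cen.2 ⟨hα.mem ht.2, by
      rw [← hα.homOn.map_mul ht.2 hy, (mem_cen.1 ht.1).2, hα.homOn.map_mul hy ht.2]⟩
  obtain ⟨k, hk, e3, -, e4⟩ := (hβ.mono (inf_le_left : cen S y ⊓ cen S (B.W.u (2 * zq n) 0) ≤ _)).exists_inv
  have hk' : ∀ t ∈ img β (cen S y ⊓ cen S (B.W.u (2 * zq n) 0)), k t ∈ cen S y ⊓ cen S (B.W.u (2 * zq n) 0) :=
    fun t ht => e4.le (mem_img_of_mem k ht)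
  have hz : D.a (2 * zq n) ∈ cen S y ⊓ cen S (B.W.u (2 * zq n) 0) := ⟨r1 (D.a_mem _), B.w1_a_mem _⟩
  have h3 := ri _ (fun t => β' (α (k t))) ((hk.comp hα fun t ht => (hk' t ht).2).comp hβ' fun t ht => hm _ (hk' t ht))
    (mem_img_of_mem β ⟨hy', hy⟩) (by rw [e3 y ⟨hy', hy⟩, e2, e1]) _ (mem_img_of_mem β hz)
    (hH.wc β (hβ.mono r1) _ (D.a_mem _))
  simp only [e3 _ hz] at h3
  have h4 := hm _ hz
  rcases D.quaternion_involution h3 (by
    rw [← hβ'.homOn.map_mul h4 h4, ← hα.homOn.map_mul hz.2 hz.2, z_mul_z, hα.homOn.map_one, hβ'.homOn.map_one])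
    with h5 | h5
  · exact z_ne_one (hα.injOn hz.2 (one_mem _) ((hβ'.injOn h4 (one_mem _)
      (h5.trans hβ'.homOn.map_one.symm)).trans hα.homOn.map_one.symm))
  · exact (Hyp.map_z_ne hα (B.w1_u_mem _ _) hz.2 e B.z1_ne).2
      (hβ'.injOn h4 (r2 (D.a_mem _)) (h5.trans (hH.map_z hβ' r2).symm))

theorem w1_one (hH : Hyp F D) (hα : Mor F (cen S (B.W.u (2 * zq n) 0)) α) (e : α (B.W.u (2 * zq n) 0) = D.a (2 * zq n))
    (hx : x ∈ cen S (B.W.u (2 * zq n) 0)) (a : Act D x 1 0) (b : Act D (α x) 1 0) : x = 1 := by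
  by_contra h1
  have := hH.fin
  obtain ⟨m, hm⟩ := IsPGroup.iff_orderOf.1 hH.pS ⟨x, hx.1⟩
  rw [Subgroup.orderOf_mk] at hm
  rcases m with _ | m
  · exact h1 (orderOf_eq_one_iff.1 hm)
  refine pow_ne_one_of_lt_orderOf (n := 2 ^ m) (by positivity) (hm ▸ Nat.pow_lt_pow_right one_lt_two (by omega))
    (B.w1_inv hH hα e (pow_mem hx _) ((a.pow _).congr rfl (mul_zero _))
      (hα.homOn.map_pow hx _ ▸ (b.pow _).congr rfl (mul_zero _)) ?_)
  rw [← pow_two, ← pow_mul, ← pow_succ, ← hm, pow_orderOf_eq_one]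

theorem cyc (hH : Hyp F D) (B : WB F D) : B.Cyc := by
  intro g hg a hc
  obtain ⟨α, hα, e⟩ := hH.exists_al B.rz.isConjElt
  have hg' := B.w1_mem hg a hc
  have he := B.w1_u_mem 1 1
  have ae := (B.act 1 1).congr rfl (sub_self _)
  obtain ⟨j, b⟩ := B.w1_act hH hα e hg' a
  obtain ⟨j0, b0⟩ := B.w1_act hH hα e he ae
  have h1 := b0.pow (2 ^ (n - 1))
  rw [← hα.homOn.map_pow he, B.W.u_pow, cast_half D.two_le, mul_one, ← B.z_eq] at h1
  have h2 := (h1.unique (hH.type_one_map hα (B.w1_u_mem _ _) (B.w1_a_mem _) e B.z1_ne q_mul_q)).2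
  obtain ⟨r, rfl⟩ := odd_of_half_ne (i := j0) D.two_le fun e' => D.h2 (by linear_combination e' - h2)
  obtain ⟨w, hw⟩ := zm_odd_unit r
  obtain ⟨m, hm⟩ := zm_natCast_surj (-j * w)
  have h3 := B.w1_one hH hα e (mul_mem hg' (pow_mem he m)) ((a.mul (ae.pow m)).congr (one_mul _) (by ring)) (by
    rw [hα.homOn.map_mul hg' (pow_mem he m), hα.homOn.map_pow he]
    exact (b.mul (b0.pow m)).congr (one_mul _) (by rw [← hm]; linear_combination -j * hw))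
  exact ⟨_, by rw [eq_inv_of_mul_eq_one_left h3, B.W.u_pow, B.W.u_inv]⟩

theorem nrm (hH : Hyp F D) (B : WB F D) : B.Nrm := by
  have := hH.fin
  have hz : ∀ {t : S}, t ∈ (zpowers (D.a (2 * zq n))).subgroupOf S ↔
      (t : Ω) = 1 ∨ (t : Ω) = B.W.u (2 * zq n) (2 * zq n) := fun {t} => by
    rw [mem_subgroupOf, B.z_eq, B.W.mem_zpowers_z]
  have : ((zpowers (D.a (2 * zq n))).subgroupOf S).Normal := ⟨fun t ht g => hz.2 ((hz.1 ht).imp
    (fun e => by simp [e]) fun e => by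
      rw [coe_mul, coe_mul, coe_inv, e, ← B.z_eq, hH.z_comm g.2, mul_inv_cancel_right])⟩
  have : ((centralizerIn S R).subgroupOf S).Normal := ⟨fun t ht g => mem_centralizerIn'.2 ⟨(g * t * g⁻¹).2,
    fun y hy => ((hH.act_conj g.2 (Act.of_comm fun r hr => ((mem_centralizerIn'.1 ht).2 r hr).symm)).comm hy).symm⟩⟩
  have hq := zq_even hH.three
  obtain ⟨x, h1, h2, h3, h4⟩ := exists_central_mod_of_not_le hH.pS (N := (zpowers (D.a (2 * zq n))).subgroupOf S)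
    (M := (centralizerIn S R).subgroupOf S) fun h => by
      rcases hz.1 (h (show ⟨_, B.u_mem (zq n) (zq n)⟩ ∈ _ from mem_centralizerIn'.2 ⟨B.u_mem _ _, fun y hy =>
        (((B.act _ _).congr rfl (sub_self _)).comm hy).symm⟩)) with e | e
      · exact D.h2 (by linear_combination 2 * (B.W.u_eq_one_iff.1 e).1)
      · exact D.h2 (by linear_combination 2 * (B.W.u_eq_iff.1 e).1 + D.h4)
  have h5 : ∀ g ∈ S, (x : Ω) * g * (x : Ω)⁻¹ * g⁻¹ = 1 ∨ (x : Ω) * g * (x : Ω)⁻¹ * g⁻¹ = B.W.u (2 * zq n) (2 * zq n) :=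
    fun g hg => hz.1 (h4 ⟨g, hg⟩)
  obtain ⟨m, hm⟩ := B.cyc hH x x.2 (Act.of_comm fun r hr => ((mem_centralizerIn'.1 h1).2 r hr).symm) (by
    have h6 : B.W.u (zq n) (zq n) = B.W.u 1 1 ^ (zq n).val := by rw [B.W.u_pow, ZMod.natCast_zmod_val, mul_one]
    rw [← mul_inv_eq_iff_eq_mul]
    rcases h5 _ (B.u_mem 1 1) with e | e
    · rw [h6, ← conj_pow, mul_inv_eq_one.1 e]
    · rw [h6, ← conj_pow, mul_inv_eq_iff_eq_mul.1 e, B.W.u_mul_u, B.W.u_pow, B.W.u_pow, ZMod.natCast_zmod_val]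
      congr 1 <;> linear_combination 2 * zq n * hq + 2 ^ (n - 3) * D.h4)
  have h6 : 2 * m = 2 * zq n := by
    have h7 := hz.1 h3
    rw [SubgroupClass.coe_pow, hm, B.W.u_pow, B.W.u_eq_one_iff, B.W.u_eq_iff] at h7
    rcases h7 with h7 | h7
    · refine absurd (hz.2 ?_) h2
      rcases zm_two_mul_eq_zero D.two_le (i := m) (by simpa using h7.1) with rfl | rfl
      exacts [Or.inl (hm.trans B.W.u_zero), Or.inr hm]
    · simpa using h7.1
  have h7 : ∀ g ∈ S, g * B.W.u (-m) (-m) * g⁻¹ = B.W.u (-m) (-m) ∨ g * B.W.u (-m) (-m) * g⁻¹ = B.W.u m m := by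
    intro g hg
    refine (h5 g hg).imp (fun e => ?_) fun e => ?_ <;>
      rw [hm, mul_assoc, mul_assoc, ← eq_inv_mul_iff_mul_eq, ← mul_assoc g, B.W.u_inv] at e <;> rw [e]
    · exact mul_one _
    · rw [B.W.u_mul_u]; congr 1 <;> linear_combination -h6
  intro g hg
  rcases zm_two_mul_eq_half D.two_le h6 with rfl | rfl
  · refine (h7 g hg).imp (fun e => ?_) fun e => ?_ <;>
      rw [← inv_inj, conj_inv, B.W.u_inv, e]
    rw [B.W.u_inv, neg_neg]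
  · simpa only [neg_neg] using h7 g hg

end WB

end CL.WQ
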